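import Groth.Agent.ProjActLib.Stab
import Groth.Agent.MonoFibre.MonoFactor
import Groth.Agent.GrpQuotLib.Descend
import Groth.Agent.S3036

/-!
# Quotients of affine algebraic groups over a field by subgroups
-/

set_option autoImplicit false
set_option backward.isDefEq.respectTransparency.types false
set_option linter.style.haveILetI false

universe u

open CategoryTheory CategoryTheory.Limits MonoidalCategory CartesianMonoidalCategory MonObj AlgebraicGeometry

noncomputable section

namespace Groth.Agent.ProjActLib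

variable {k : Type u} [Field k]

/-- An action restricted along a homomorphism. -/
def restrictAct {G G' X : Over (Spec (CommRingCat.of k))} [GrpObj G] [GrpObj G'] (e : G' ⟶ G) [IsMonHom e]
    (a : AlgGrp.Action G X) : AlgGrp.Action G' X where
  act := (e ▷ X) ≫ a.act
  one_act := by rw [← Category.assoc, ← comp_whiskerRight, IsMonHom.one_hom, a.one_act]
  mul_act := by
    have key : ∀ {T : Over (Spec (CommRingCat.of k))} (g : T ⟶ G') (x : T ⟶ X),
        lift g x ≫ (e ▷ X) ≫ a.act = lift (g ≫ e) x ≫ a.act := fun g x => by rw [lift_whiskerRight_assoc]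
    have e1 : (μ[G'] ▷ X) = lift ((fst (G' ⊗ G') X ≫ fst G' G') * (fst (G' ⊗ G') X ≫ snd G' G'))
        (snd (G' ⊗ G') X) := by
      apply CartesianMonoidalCategory.hom_ext
      · rw [whiskerRight_fst, lift_fst, Hom.mul_def, ← comp_lift, lift_fst_snd, Category.comp_id]
      · rw [whiskerRight_snd, lift_snd]
    have e2 : ∀ f : G' ⊗ X ⟶ X, (α_ G' G' X).hom ≫ (G' ◁ f) = lift (fst (G' ⊗ G') X ≫ fst G' G')
        (lift (fst (G' ⊗ G') X ≫ snd G' G') (snd (G' ⊗ G') X) ≫ f) := fun f => by
      apply CartesianMonoidalCategory.hom_ext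
      · rw [lift_fst, Category.assoc, whiskerLeft_fst, associator_hom_fst]
      · rw [lift_snd, Category.assoc, whiskerLeft_snd, ← Category.assoc]
        congr 1
        apply CartesianMonoidalCategory.hom_ext
        · rw [lift_fst, Category.assoc, associator_hom_snd_fst]
        · rw [lift_snd, Category.assoc, associator_hom_snd_snd]
    rw [e1, key, MonObj.mul_comp, GrpQuotLib.mul_smul, ← key, ← key, ← e2, Category.assoc]

theorem restrictAct_orbitMap {G G' X : Over (Spec (CommRingCat.of k))} [GrpObj G] [GrpObj G'] (e : G' ⟶ G)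
    [IsMonHom e] (a : AlgGrp.Action G X) (ξ : 𝟙_ _ ⟶ X) :
    (restrictAct e a).orbitMap ξ = e ≫ a.orbitMap ξ := by
  show lift (𝟙 G') (toUnit G' ≫ ξ) ≫ (e ▷ X) ≫ a.act = e ≫ lift (𝟙 G) (toUnit G ≫ ξ) ≫ a.act
  rw [lift_whiskerRight_assoc, Category.id_comp, ← Category.assoc e, comp_lift, Category.comp_id,
    ← Category.assoc e, toUnit_unique (e ≫ toUnit G) (toUnit G')]

/-- A closed subgroup of an affine group of finite type is a stabiliser. -/
theorem exists_stabilizer' (G H : Over (Spec (CommRingCat.of k))) [GrpObj G] [GrpObj H] [IsAffine G.left]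
    [LocallyOfFiniteType G.hom] (i : H ⟶ G) [IsMonHom i] [IsClosedImmersion i.left] :
    ∃ (n : ℕ) (a : AlgGrp.Action G (P k n)) (ξ : 𝟙_ _ ⟶ P k n),
      IsPullback i (toUnit H) (a.orbitMap ξ) ξ := by
  haveI : IsAffine H.left := isAffine_of_isAffineHom i.left
  obtain ⟨A, ⟨eA⟩⟩ := essImage_hopfSpec.mpr (show IsAffine (Grp.mk G).X.left by assumption)
  obtain ⟨B, ⟨eB⟩⟩ := essImage_hopfSpec.mpr (show IsAffine (Grp.mk H).X.left by assumption)
  let v : Grp.mk H ⟶ Grp.mk G := Grp.homMk' (Mon.Hom.mk' i)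
  let φ := hopfSpec.fullyFaithful.preimage (eB.hom ≫ v ≫ eA.inv)
  let π : A.unop →ₐc[k] B.unop := φ.unop.hom
  let e : CoactBr.sp k A.unop ≅ G := (Grp.forget _).mapIso eA
  let e' : CoactBr.sp k B.unop ≅ H := (Grp.forget _).mapIso eB
  have hi : e'.hom ≫ i ≫ e.inv = CoactBr.pt (π : A.unop →ₐ[k] B.unop) := by
    have := congrArg (fun f => f.hom.hom) (hopfSpec.fullyFaithful.map_preimage (eB.hom ≫ v ≫ eA.inv))
    exact this.symm
  haveI : IsMonHom e.inv := inferInstanceAs (IsMonHom eA.inv.hom.hom)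
  haveI : IsIso e.inv.left := ((Over.forget _).mapIso e).isIso_inv
  haveI : IsIso e'.hom.left := ((Over.forget _).mapIso e').isIso_hom
  haveI : IsClosedImmersion (CoactBr.pt (π : A.unop →ₐ[k] B.unop)).left := by
    rw [← hi, Over.comp_left, Over.comp_left]; infer_instance
  have hπ : Function.Surjective π :=
    by
      haveI : IsClosedImmersion (Spec.map (CommRingCat.ofHom (π : A.unop →+* B.unop))) :=
        ‹IsClosedImmersion (CoactBr.pt (π : A.unop →ₐ[k] B.unop)).left›
      have h := (IsClosedImmersion.isAffine_surjective_of_isAffine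
        (Spec.map (CommRingCat.ofHom (π : A.unop →+* B.unop)))).2
      have hn := Scheme.ΓSpecIso_naturality (CommRingCat.ofHom (π : A.unop →+* B.unop))
      intro y
      obtain ⟨z, hz⟩ := h ((Scheme.ΓSpecIso (CommRingCat.of B.unop)).inv y)
      refine ⟨(Scheme.ΓSpecIso (CommRingCat.of A.unop)).hom z, ?_⟩
      refine (congrArg (fun f => f.hom z) hn).symm.trans ?_
      refine (congrArg (Scheme.ΓSpecIso (CommRingCat.of B.unop)).hom.hom hz).trans ?_
      exact congrArg (fun f => f.hom y) (Scheme.ΓSpecIso (CommRingCat.of B.unop)).inv_hom_id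
  haveI : LocallyOfFiniteType (Spec.map (CommRingCat.ofHom (algebraMap k A.unop))) := by
    haveI : IsIso e.hom.left := ((Over.forget _).mapIso e).isIso_hom
    show LocallyOfFiniteType (CoactBr.sp k A.unop).hom
    rw [← Over.w e.hom]
    infer_instance
  haveI : Algebra.FiniteType k A.unop :=
    RingHom.finiteType_algebraMap.mp ((HasRingHomProperty.Spec_iff (P := @LocallyOfFiniteType)).mp ‹_›)
  haveI : IsNoetherianRing A.unop := Algebra.FiniteType.isNoetherianRing k A.unop
  obtain ⟨n, ρ, c₀, hpb⟩ := exists_stabilizer π hπ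
  refine ⟨n, restrictAct e.inv (action ρ), basePt c₀, ?_⟩
  rw [restrictAct_orbitMap]
  refine hpb.of_iso e' e (Iso.refl _) (Iso.refl _) ?_ (toUnit_unique _ _) (by simp) (by simp)
  rw [← hi, Category.assoc, Category.assoc, e.inv_hom_id, Category.comp_id]

/-- The quotient of an affine group of finite type by a closed subgroup. -/
theorem exists_quotient (G H : Over (Spec (CommRingCat.of k))) [GrpObj G] [GrpObj H] [IsAffine G.left]
    [LocallyOfFiniteType G.hom] (i : H ⟶ G) [IsMonHom i] [IsClosedImmersion i.left] :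
    ∃ (X : Over (Spec (CommRingCat.of k))) (a : AlgGrp.Action G X) (o : 𝟙_ _ ⟶ X) (m : ℕ) (j : X ⟶ P k m),
      LocallyOfFiniteType X.hom ∧ QuasiCompact X.hom ∧ Mono j ∧
      Flat (a.orbitMap o).left ∧ Surjective (a.orbitMap o).left ∧ LocallyOfFinitePresentation (a.orbitMap o).left ∧
      IsPullback (fst G H) ((G ◁ i) ≫ μ[G]) (a.orbitMap o) (a.orbitMap o) := by
  obtain ⟨n, a, ξ, hpb⟩ := exists_stabilizer' G H i
  haveI : IsLocallyNoetherian (Spec (CommRingCat.of k)) := inferInstance
  haveI : LocallyOfFinitePresentation G.hom := LocallyOfFinitePresentation.iff_locallyOfFiniteType.mpr inferInstance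
  haveI : Subsingleton ↥(Spec (CommRingCat.of k)) := inferInstanceAs (Subsingleton (PrimeSpectrum k))
  haveI : Flat H.hom := inferInstance
  obtain ⟨Q, q, m, hqm, hs, hf, hp, hm, hQ, hsq⟩ :=
    MonoFibre.MonoFactor.exists_quotient_stabilizer a ξ i hpb (Or.inr inferInstance)
  haveI := hm
  haveI := hs
  haveI := hf
  haveI := hp
  haveI : QuasiCompact G.hom := inferInstance
  haveI : QuasiCompact Q.hom := ⟨fun U hUo hU => by
    have hc := (inferInstance : QuasiCompact G.hom).isCompact_preimage U hUo hU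
    have : Q.hom ⁻¹' U = q.left '' (G.hom ⁻¹' U) := by
      rw [← Over.w q, Scheme.Hom.comp_base, TopCat.coe_comp, Set.preimage_comp,
        Set.image_preimage_eq _ q.left.surjective]
    rw [this]
    exact hc.image q.left.continuous⟩
  haveI : SchDesc.IsFpqc q.left := SchDesc.IsFpqc.of_locallyOfFinitePresentation q.left
  haveI := GrpQuotLib.isFpqc_whiskerLeft q G
  have hdesc : ∀ (T : Over (Spec (CommRingCat.of k))) (x y : T ⟶ G ⊗ G), x ≫ (G ◁ q) = y ≫ (G ◁ q) →
      x ≫ μ[G] ≫ q = y ≫ μ[G] ≫ q := by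
    intro T x y hxy
    rw [← cancel_mono m]
    have key : ∀ z : T ⟶ G ⊗ G, (z ≫ μ[G] ≫ q) ≫ m = lift (z ≫ fst G G) ((z ≫ snd G G) ≫ q ≫ m) ≫ a.act := by
      intro z
      have e : z ≫ μ[G] = (z ≫ fst G G) * (z ≫ snd G G) := by
        rw [Hom.mul_def, ← comp_lift, lift_fst_snd, Category.comp_id]
      rw [Category.assoc, Category.assoc, hqm, ← Category.assoc z, e, GrpQuotLib.comp_orbitMap, GrpQuotLib.mul_smul,
        ← GrpQuotLib.comp_orbitMap]
    have h1 := congrArg (· ≫ fst G Q) hxy
    simp only [Category.assoc, whiskerLeft_fst] at h1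
    have h2 := congrArg (· ≫ snd G Q ≫ m) hxy
    simp only [Category.assoc, whiskerLeft_snd_assoc] at h2
    rw [key, key, h1, Category.assoc, Category.assoc, h2]
  obtain ⟨act, hact⟩ := GrpQuotLib.exists_desc (G ◁ q) (μ[G] ≫ q) hdesc
  haveI : Epi (G ◁ q) := GrpQuotLib.epi_of_isFpqc _
  have hactm : act ≫ m = (G ◁ m) ≫ a.act := by
    rw [← cancel_epi (G ◁ q), reassoc_of% hact, hqm, ← MonoidalCategory.whiskerLeft_comp_assoc, hqm]
    have e : μ[G] = fst G G * snd G G := by rw [Hom.mul_def, lift_fst_snd, Category.id_comp]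
    rw [e, GrpQuotLib.comp_orbitMap, GrpQuotLib.mul_smul, ← GrpQuotLib.comp_orbitMap]
    congr 1
  let aQ : AlgGrp.Action G Q :=
    { act := act
      one_act := by
        rw [← cancel_mono m, Category.assoc, hactm, ← MonoidalCategory.whisker_exchange_assoc, a.one_act,
          MonoidalCategory.leftUnitor_naturality]
      mul_act := by
        rw [← cancel_mono m]
        simp only [Category.assoc, hactm]
        rw [← MonoidalCategory.whisker_exchange_assoc, a.mul_act,
          ← MonoidalCategory.whiskerLeft_comp_assoc (f := act), hactm, MonoidalCategory.whiskerLeft_comp_assoc,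
          MonoidalCategory.associator_naturality_right_assoc] }
  have ho : aQ.orbitMap (η[G] ≫ q) = q := by
    rw [← cancel_mono m]
    show (lift (𝟙 G) (toUnit G ≫ η[G] ≫ q) ≫ act) ≫ m = q ≫ m
    rw [Category.assoc, hactm, lift_whiskerLeft_assoc, Category.assoc, Category.assoc, hqm, ← Category.assoc,
      ← Hom.one_def, GrpQuotLib.comp_orbitMap a ξ (1 : G ⟶ G), GrpQuotLib.one_smul, AlgGrp.Action.orbitMap]
  refine ⟨Q, aQ, η[G] ≫ q, n, m, inferInstance, inferInstance, hm, ?_, ?_, ?_, ?_⟩ <;> rw [ho]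
  · exact hf
  · exact hs
  · exact hp
  · exact hsq

end Groth.Agent.ProjActLib
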