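import Groth.Agent.ProjActLib.Normal
import Groth.Agent.ProjActLib.Quotient
import Groth.Agent.GrpQuotLib.KerGrp
import Groth.Agent.GrpHomLib.Field
import Groth.Agent.MonoFibre.RedSubgroup
import Groth.Agent.MonoFibre.HomFlat
import Groth.Agent.GrpSchLib.Separated
import Groth.Agent.FpqcDesc.Basic
import Groth.Agent.S5378
import Groth.Agent.S0440

/-!
# A quotient of an affine algebraic group is affine
-/

set_option autoImplicit false
set_option backward.isDefEq.respectTransparency.types false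
set_option linter.style.haveILetI false

universe u

open CategoryTheory CategoryTheory.Limits MonoidalCategory CartesianMonoidalCategory MonObj AlgebraicGeometry

noncomputable section

namespace Groth.Agent.ProjActLib

variable {k : Type u} [Field k]

/-- A morphism factors through a closed subscheme as soon as its points do. -/
theorem exists_factor_of_points {A : Type u} [CommRing A] [HopfAlgebra k A] {B : Type u} [CommRing B]
    [HopfAlgebra k B] (π : A →ₐc[k] B) (hπ : Function.Surjective π) {W : Over (Spec (CommRingCat.of k))}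
    (g : W ⟶ CoactBr.sp k A)
    (h : ∀ (T : Type u) [CommRing T] [Algebra k T] (j : CoactBr.sp k T ⟶ W) (g₁ : A →ₐ[k] T),
      CoactBr.pt g₁ = j ≫ g → ∀ a ∈ RingHom.ker (π : A →+* B), g₁ a = 0) :
    ∃ l, l ≫ CoactBr.pt (π : A →ₐ[k] B) = g := by
  haveI := isClosedImmersion_pt π hπ
  haveI : Mono (CoactBr.pt (π : A →ₐ[k] B)).left := inferInstance
  choose T iT aT j hj hx using fun x : W.left => exists_affine_nhd x
  have hl : ∀ x, ∃ l : CoactBr.sp k (T x) ⟶ CoactBr.sp k B,
      l ≫ CoactBr.pt (π : A →ₐ[k] B) = j x ≫ g := by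
    intro x
    obtain ⟨g₁, hg₁⟩ := exists_pt (j x ≫ g)
    refine ⟨CoactBr.pt (AlgHom.liftOfSurjective (π : A →ₐ[k] B) hπ g₁ (fun a ha => h (T x) (j x) g₁ hg₁ a ha)), ?_⟩
    rw [← CoactBr.pt_comp, AlgHom.liftOfSurjective_comp, hg₁]
  choose l hl using hl
  let 𝒰 : W.left.OpenCover := Scheme.Cover.mkOfCovers W.left (fun x => (CoactBr.sp k (T x)).left)
    (fun x => (j x).left) (fun x => by obtain ⟨y, hy⟩ := hx x; exact ⟨x, y, hy⟩) hj
  have hcompat : ∀ x x' : W.left, pullback.fst (j x).left (j x').left ≫ (l x).left =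
      pullback.snd (j x).left (j x').left ≫ (l x').left := by
    intro x x'
    rw [← cancel_mono (CoactBr.pt (π : A →ₐ[k] B)).left, Category.assoc, Category.assoc, ← Over.comp_left,
      ← Over.comp_left, hl, hl, Over.comp_left, Over.comp_left, pullback.condition_assoc]
  let L : W.left ⟶ (CoactBr.sp k B).left := 𝒰.glueMorphisms (fun x => (l x).left) hcompat
  have hL : L ≫ (CoactBr.pt (π : A →ₐ[k] B)).left = g.left := by
    refine 𝒰.hom_ext _ _ fun x => ?_
    refine (𝒰.ι_glueMorphisms_assoc _ _ x _).trans ?_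
    exact congrArg CommaMorphism.left (hl x)
  exact ⟨Over.homMk L (by rw [← Over.w (CoactBr.pt (π : A →ₐ[k] B)), ← Category.assoc, hL, Over.w g]),
    Over.OverMorphism.ext hL⟩

/-- A normal subgroup of a reduced affine group is the kernel of a homomorphism to an affine group. -/
theorem exists_hom_kernel [IsAlgClosed k] (G N : Over (Spec (CommRingCat.of k))) [GrpObj G] [GrpObj N]
    [IsAffine G.left] [IsReduced G.left] [LocallyOfFiniteType G.hom] (i : N ⟶ G) [IsMonHom i]
    [IsClosedImmersion i.left] (hN : AlgGrp.IsNormalHom i) :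
    ∃ (G' : Over (Spec (CommRingCat.of k))) (_ : GrpObj G') (u : G ⟶ G'), IsAffine G'.left ∧ IsMonHom u ∧
      AlgGrp.IsKernel i u := by
  haveI : IsAffine N.left := isAffine_of_isAffineHom i.left
  obtain ⟨A, ⟨eA⟩⟩ := essImage_hopfSpec.mpr (show IsAffine (Grp.mk G).X.left by assumption)
  obtain ⟨B, ⟨eB⟩⟩ := essImage_hopfSpec.mpr (show IsAffine (Grp.mk N).X.left by assumption)
  let v : Grp.mk N ⟶ Grp.mk G := Grp.homMk' (Mon.Hom.mk' i)
  let φ := hopfSpec.fullyFaithful.preimage (eB.hom ≫ v ≫ eA.inv)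
  let π : A.unop →ₐc[k] B.unop := φ.unop.hom
  let e : CoactBr.sp k A.unop ≅ G := (Grp.forget _).mapIso eA
  let e' : CoactBr.sp k B.unop ≅ N := (Grp.forget _).mapIso eB
  have hi : e'.hom ≫ i ≫ e.inv = CoactBr.pt (π : A.unop →ₐ[k] B.unop) := by
    have := congrArg (fun f => f.hom.hom) (hopfSpec.fullyFaithful.map_preimage (eB.hom ≫ v ≫ eA.inv))
    exact this.symm
  haveI : IsMonHom e.inv := inferInstanceAs (IsMonHom eA.inv.hom.hom)
  haveI : IsMonHom e.hom := inferInstanceAs (IsMonHom eA.hom.hom.hom)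
  haveI : IsIso e.inv.left := ((Over.forget _).mapIso e).isIso_inv
  haveI : IsIso e.hom.left := ((Over.forget _).mapIso e).isIso_hom
  haveI : IsIso e'.hom.left := ((Over.forget _).mapIso e').isIso_hom
  haveI : IsClosedImmersion (CoactBr.pt (π : A.unop →ₐ[k] B.unop)).left := by
    rw [← hi, Over.comp_left, Over.comp_left]; infer_instance
  have hπ : Function.Surjective π := by
    haveI : IsClosedImmersion (Spec.map (CommRingCat.ofHom (π : A.unop →+* B.unop))) :=
      ‹IsClosedImmersion (CoactBr.pt (π : A.unop →ₐ[k] B.unop)).left›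
    have h := (IsClosedImmersion.isAffine_surjective_of_isAffine
      (Spec.map (CommRingCat.ofHom (π : A.unop →+* B.unop)))).2
    have hn := Scheme.ΓSpecIso_naturality (CommRingCat.ofHom (π : A.unop →+* B.unop))
    intro y
    obtain ⟨z, hz⟩ := h ((Scheme.ΓSpecIso (CommRingCat.of B.unop)).inv y)
    refine ⟨(Scheme.ΓSpecIso (CommRingCat.of A.unop)).hom z, ?_⟩
    refine (congrArg (fun f => f.hom z) hn).symm.trans ?_
    refine (congrArg (Scheme.ΓSpecIso (CommRingCat.of B.unop)).hom.hom hz).trans ?_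
    exact congrArg (fun f => f.hom y) (Scheme.ΓSpecIso (CommRingCat.of B.unop)).inv_hom_id
  haveI : LocallyOfFiniteType (Spec.map (CommRingCat.ofHom (algebraMap k A.unop))) := by
    show LocallyOfFiniteType (CoactBr.sp k A.unop).hom
    rw [← Over.w e.hom]
    infer_instance
  haveI : Algebra.FiniteType k A.unop :=
    RingHom.finiteType_algebraMap.mp ((HasRingHomProperty.Spec_iff (P := @LocallyOfFiniteType)).mp ‹_›)
  haveI hIso : IsIso e.hom.left := ((Over.forget _).mapIso e).isIso_hom
  haveI : IsReduced (Spec (CommRingCat.of A.unop)) := by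
    haveI : IsOpenImmersion e.hom.left := @IsOpenImmersion.of_isIso _ _ e.hom.left hIso
    exact @isReduced_of_isOpenImmersion _ _ e.hom.left ‹_› ‹IsReduced G.left›
  haveI : _root_.IsReduced A.unop := (affine_isReduced_iff (CommRingCat.of A.unop)).mp ‹_›
  have hn : PtNormal π := by
    intro g
    let gB := CoactBr.pt ((Algebra.ofId k B.unop).comp g)
    obtain ⟨n', hn'⟩ := hN _ (gB⁻¹ ≫ e.hom) e'.hom
    obtain ⟨ν, hν⟩ := exists_pt (n' ≫ e'.inv)
    refine ⟨ν, ?_⟩
    have h1 := congrArg (· ≫ e.inv) hn'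
    simp only [MonObj.mul_comp, GrpObj.inv_comp, Category.assoc, e.hom_inv_id, Category.comp_id,
      _root_.inv_inv, hi] at h1
    rw [CoactBr.pt_comp, hν, ← hi, Category.assoc, e'.inv_hom_id_assoc, ← h1]
    show gB⁻¹ * CoactBr.pt (π : A.unop →ₐ[k] B.unop) * gB * gB⁻¹ = gB⁻¹ * (e'.hom ≫ i ≫ e.inv)
    rw [hi, mul_inv_cancel_right]
  obtain ⟨m, ψ, hψ⟩ := exists_kernel_hom hπ hn
  let A' : CommHopfAlgCat k := CommHopfAlgCat.of k (CoordGrp.GLn m k)
  let Ψ := (hopfSpec (CommRingCat.of k)).map (CommHopfAlgCat.ofHom ψ : A' ⟶ A.unop).op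
  let u : CoactBr.sp k A.unop ⟶ CoactBr.sp k (CoordGrp.GLn m k) :=
    CoactBr.pt (ψ : CoordGrp.GLn m k →ₐ[k] A.unop)
  haveI : IsMonHom u := inferInstanceAs (IsMonHom Ψ.hom.hom)
  have hone : ∀ (T : Type u) [CommRing T] [Algebra k T] (g₁ : A.unop →ₐ[k] T),
      CoactBr.pt g₁ ≫ u = 1 ↔ ∀ a ∈ RingHom.ker (π : A.unop →+* B.unop), g₁ a = 0 := by
    intro T _ _ g₁
    rw [← hψ T g₁, ← CoactBr.pt_comp, CoactBr.one_eq_pt]
    exact CoactBr.pt_injective.eq_iff
  refine ⟨CoactBr.sp k (CoordGrp.GLn m k), inferInstance, e.inv ≫ u,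
    inferInstanceAs (IsAffine (Spec (CommRingCat.of (CoordGrp.GLn m k)))), inferInstance, ?_⟩
  have hw : i ≫ e.inv ≫ u = toUnit N ≫ η[CoactBr.sp k (CoordGrp.GLn m k)] := by
    rw [← Hom.one_def, ← cancel_epi e'.hom, MonObj.comp_one]
    have := (hone B.unop (π : A.unop →ₐ[k] B.unop)).mpr (fun a ha => ha)
    rw [← hi] at this
    simpa only [Category.assoc] using this
  haveI : Mono i.left := inferInstance
  haveI : Mono i := Over.mono_of_mono_left i
  have key : ∀ {W : Over (Spec (CommRingCat.of k))} (g : W ⟶ G), g ≫ e.inv ≫ u = 1 → ∃ l, l ≫ i = g := by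
    intro W g hg
    obtain ⟨l, hl⟩ := exists_factor_of_points π hπ (g ≫ e.inv) (fun T _ _ j g₁ hg₁ => (hone T g₁).mp (by
      rw [hg₁, Category.assoc, Category.assoc, hg, MonObj.comp_one]))
    refine ⟨l ≫ e'.hom, ?_⟩
    rw [← cancel_mono e.inv, Category.assoc, Category.assoc, hi, hl]
  choose lf hlf using @key
  exact IsPullback.of_isLimit' ⟨hw⟩ (PullbackCone.IsLimit.mk _
    (fun s => lf s.fst (by
      rw [s.condition, Hom.one_def]; exact congrArg (· ≫ η[_]) (toUnit_unique _ _)))
    (fun s => hlf _ _) (fun s => toUnit_unique _ _)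
    (fun s m hm _ => (cancel_mono i).1 (hm.trans (hlf _ _).symm)))

/-- Two homomorphisms with the same kernel identify the same points. -/
theorem comp_eq_iff_of_kernel {G Q Q' N : Over (Spec (CommRingCat.of k))} [GrpObj G] [GrpObj Q] [GrpObj Q']
    (i : N ⟶ G) (q : G ⟶ Q) [IsMonHom q] (q' : G ⟶ Q') [IsMonHom q'] (hq : AlgGrp.IsKernel i q)
    (hq' : AlgGrp.IsKernel i q') {T : Over (Spec (CommRingCat.of k))} (x y : T ⟶ G) :
    x ≫ q = y ≫ q ↔ x ≫ q' = y ≫ q' := by
  have key : ∀ {Q : Over (Spec (CommRingCat.of k))} [GrpObj Q] (q : G ⟶ Q) [IsMonHom q],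
      AlgGrp.IsKernel i q → (x ≫ q = y ≫ q ↔ ∃ n, n ≫ i = x * y⁻¹) := by
    intro Q _ q _ hq
    rw [← mul_inv_eq_one, ← GrpObj.inv_comp, ← MonObj.mul_comp]
    refine ⟨fun h => ⟨hq.lift (x * y⁻¹) (toUnit T) (by rw [h, Hom.one_def]), hq.lift_fst _ _ _⟩, ?_⟩
    rintro ⟨n, hn⟩
    rw [← hn, Category.assoc, hq.w, ← Category.assoc, Hom.one_def]
    exact congrArg (· ≫ η[Q]) (toUnit_unique _ _)
  rw [key q hq, key q' hq']

/-- The image of a reduced affine group is affine. -/
theorem isAffine_of_hom_reduced [IsAlgClosed k] (G Q : Over (Spec (CommRingCat.of k))) [GrpObj G] [GrpObj Q]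
    [IsAffine G.left] [IsReduced G.left] [LocallyOfFiniteType G.hom] [LocallyOfFiniteType Q.hom]
    (q : G ⟶ Q) [IsMonHom q] [Flat q.left] [Surjective q.left] : IsAffine Q.left := by
  haveI : IsClosedImmersion η[Q].left := GrpSchLib.isClosedImmersion_unit
  let N := pullback q η[Q]
  obtain ⟨hN, hhom⟩ := GrpQuotLib.exists_grpObj_kernel q
  letI : GrpObj N := hN
  let i : N ⟶ G := pullback.fst q η[Q]
  haveI : IsMonHom i := hhom
  haveI : IsClosedImmersion i.left := MorphismProperty.of_isPullback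
    (GrpQuotLib.isPullback_left (IsPullback.of_hasPullback q η[Q])).flip ‹IsClosedImmersion η[Q].left›
  have hker : AlgGrp.IsKernel i q := by
    show IsPullback i (toUnit N) q η[Q]
    rw [toUnit_unique (toUnit N) (pullback.snd q η[Q])]
    exact IsPullback.of_hasPullback q η[Q]
  have hnorm : AlgGrp.IsNormalHom i := fun T g n => by
    refine ⟨hker.lift (g * (n ≫ i) * g⁻¹) (toUnit T) ?_, (hker.lift_fst _ _ _).symm⟩
    rw [MonObj.mul_comp, MonObj.mul_comp, GrpObj.inv_comp, Category.assoc, hker.w, ← Hom.one_def,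
      MonObj.comp_one, ← Hom.one_def, _root_.mul_one, mul_inv_cancel]
  obtain ⟨G', hG', u, hG'a, hu, hku⟩ := exists_hom_kernel G N i hnorm
  haveI := hu
  haveI := hG'a
  haveI : QuasiCompact G.hom := inferInstance
  obtain ⟨C, hC, p, m, hp, hm, hpm, hps, hpf, hmc, hCa, -⟩ := S5378.result k G G' u
  haveI := hp
  haveI := hps
  haveI := hpf
  haveI := hmc
  haveI : Mono m.left := inferInstance
  haveI : Mono m := Over.mono_of_mono_left m
  haveI : LocallyOfFiniteType (q.left ≫ Q.hom) := by rw [Over.w q]; infer_instance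
  haveI : LocallyOfFiniteType q.left := locallyOfFiniteType_of_comp q.left Q.hom
  haveI : IsLocallyNoetherian Q.left := LocallyOfFiniteType.isLocallyNoetherian Q.hom
  haveI : LocallyOfFinitePresentation q.left := LocallyOfFinitePresentation.iff_locallyOfFiniteType.mpr inferInstance
  haveI : SchDesc.IsFpqc q.left := SchDesc.IsFpqc.of_locallyOfFinitePresentation q.left
  haveI : IsSeparated C.hom := GrpSchLib.isSeparated_hom
  haveI : QuasiCompact p.left := by
    haveI : QuasiCompact (p.left ≫ C.hom) := by rw [Over.w p]; infer_instance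
    exact QuasiCompact.of_comp p.left C.hom
  haveI : SchDesc.IsFpqc p.left := SchDesc.IsFpqc.of_quasiCompact p.left
  have hiff : ∀ {T : Over (Spec (CommRingCat.of k))} (x y : T ⟶ G), x ≫ q = y ≫ q ↔ x ≫ p = y ≫ p := fun x y => by
    rw [comp_eq_iff_of_kernel i q u hker hku, ← hpm, ← Category.assoc, ← Category.assoc, cancel_mono]
  obtain ⟨a, ha⟩ := GrpQuotLib.exists_desc q p (fun T x y h => (hiff x y).mp h)
  obtain ⟨b, hb⟩ := GrpQuotLib.exists_desc p q (fun T x y h => (hiff x y).mpr h)
  haveI : Epi q := GrpQuotLib.epi_of_isFpqc q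
  haveI : Epi p := GrpQuotLib.epi_of_isFpqc p
  let e : C ≅ Q :=
    { hom := b
      inv := a
      hom_inv_id := by rw [← cancel_epi p, reassoc_of% hb, ha, Category.comp_id]
      inv_hom_id := by rw [← cancel_epi q, reassoc_of% ha, hb, Category.comp_id] }
  haveI := hCa
  haveI : IsIso e.inv.left := ((Over.forget _).mapIso e).isIso_inv
  exact IsAffine.of_isIso e.inv.left

/-- The reduced subgroup over a perfect field. -/
theorem exists_red [PerfectField k] (G : Over (Spec (CommRingCat.of k))) [GrpObj G] :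
    ∃ (N : Over (Spec (CommRingCat.of k))) (_ : GrpObj N) (i : N ⟶ G),
      IsMonHom i ∧ IsClosedImmersion i.left ∧ IsReduced N.left ∧ Surjective i.left := by
  obtain ⟨N, hN, i, h1, h2, h3, h4⟩ := MonoFibre.exists_redSubgroup (G := G) Set.univ isClosed_univ trivial
    (fun _ _ _ _ _ => trivial) (fun _ _ _ => trivial)
  exact ⟨N, hN, i, h1, h2, h3, ⟨fun x => h4.ge (Set.mem_univ x)⟩⟩

/-- Over an algebraically closed field, a quotient of an affine group is affine. -/
theorem isAffine_of_hom_algClosed [IsAlgClosed k] (G Q : Over (Spec (CommRingCat.of k))) [GrpObj G] [GrpObj Q]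
    [IsAffine G.left] [LocallyOfFiniteType G.hom] [LocallyOfFiniteType Q.hom]
    (q : G ⟶ Q) [IsMonHom q] [Surjective q.left] : IsAffine Q.left := by
  obtain ⟨G₀, hG₀, i, hi, hic, hir, his⟩ := exists_red G
  obtain ⟨Q₀, hQ₀, j, hj, hjc, hjr, hjs⟩ := exists_red Q
  haveI := hi
  haveI := hic
  haveI := hir
  haveI := his
  haveI := hj
  haveI := hjc
  haveI := hjr
  haveI := hjs
  haveI : IsAffine G₀.left := isAffine_of_isAffineHom i.left
  haveI : LocallyOfFiniteType G₀.hom := by rw [← Over.w i]; infer_instance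
  haveI : LocallyOfFiniteType Q₀.hom := by rw [← Over.w j]; infer_instance
  obtain ⟨l, hl⟩ := GrpHomLib.exists_lift_of_range j.left (i ≫ q).left
    (fun y _ => j.left.surjective y)
  let q₀ : G₀ ⟶ Q₀ := Over.homMk l (by rw [← Over.w j, ← Category.assoc, hl, Over.w (i ≫ q)])
  have hq₀ : q₀ ≫ j = i ≫ q := Over.OverMorphism.ext hl
  haveI : Mono j.left := inferInstance
  haveI : Mono j := Over.mono_of_mono_left j
  haveI : IsMonHom q₀ := by
    refine ⟨(cancel_mono j).1 ?_, (cancel_mono j).1 ?_⟩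
    · rw [Category.assoc, hq₀, IsMonHom.one_hom, IsMonHom.one_hom]
    · rw [Category.assoc, hq₀, Category.assoc, IsMonHom.mul_hom j, IsMonHom.mul_hom (i ≫ q),
        MonoidalCategory.tensorHom_comp_tensorHom_assoc, hq₀]
  haveI : Surjective q₀.left := by
    haveI : Surjective (q₀.left ≫ j.left) := by
      rw [← Over.comp_left, hq₀, Over.comp_left]; infer_instance
    exact ⟨fun y => by
      obtain ⟨x, hx⟩ := (q₀.left ≫ j.left).surjective (j.left y)
      exact ⟨x, j.left.isClosedEmbedding.injective hx⟩⟩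
  haveI : Flat q₀.left := MonoFibre.flat_of_surjective q₀
  haveI := isAffine_of_hom_reduced G₀ Q₀ q₀
  exact S0440.result j.left j.left.surjective

/-- A quotient of an affine algebraic group is affine. -/
theorem isAffine_of_hom (G Q : Over (Spec (CommRingCat.of k))) [GrpObj G] [GrpObj Q]
    [IsAffine G.left] [LocallyOfFiniteType G.hom] [LocallyOfFiniteType Q.hom]
    (q : G ⟶ Q) [IsMonHom q] [Surjective q.left] : IsAffine Q.left := by
  let f : Spec (CommRingCat.of (AlgebraicClosure k)) ⟶ Spec (CommRingCat.of k) :=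
    Spec.map (CommRingCat.ofHom (algebraMap k (AlgebraicClosure k)))
  letI : GrpObj ((Over.pullback f).obj G) := Functor.grpObjObj
  letI : GrpObj ((Over.pullback f).obj Q) := Functor.grpObjObj
  let q' := (Over.pullback f).map q
  haveI : LocallyOfFiniteType ((Over.pullback f).obj G).hom :=
    MorphismProperty.pullback_snd G.hom f (inferInstance : LocallyOfFiniteType G.hom)
  haveI : LocallyOfFiniteType ((Over.pullback f).obj Q).hom :=
    MorphismProperty.pullback_snd Q.hom f (inferInstance : LocallyOfFiniteType Q.hom)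
  haveI : IsAffine ((Over.pullback f).obj G).left := inferInstanceAs (IsAffine (pullback G.hom f))
  haveI : Surjective q'.left := by
    have sq : IsPullback (pullback.fst G.hom f) q'.left q.left (pullback.fst Q.hom f) := by
      refine IsPullback.of_bot (v₂₁ := pullback.snd Q.hom f) (v₂₂ := Q.hom) (h₃₁ := f) ?_ ?_
        (IsPullback.of_hasPullback Q.hom f)
      · rw [show q'.left ≫ pullback.snd Q.hom f = pullback.snd G.hom f from pullback.lift_snd _ _ _, Over.w q]
        exact IsPullback.of_hasPullback G.hom f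
      · exact (pullback.lift_fst _ _ _).symm
    exact MorphismProperty.of_isPullback (P := @Surjective) sq ‹_›
  haveI : IsMonHom q' := inferInstanceAs (IsMonHom ((Over.pullback f).map q))
  haveI : IsAffine ((Over.pullback f).obj Q).left :=
    isAffine_of_hom_algClosed ((Over.pullback f).obj G) ((Over.pullback f).obj Q) q'
  haveI : IsAffine (pullback Q.hom f) := ‹IsAffine ((Over.pullback f).obj Q).left›
  haveI := FpqcDesc.isAffineHom_descends.{u}
  haveI : Subsingleton ↥(Spec (CommRingCat.of k)) := inferInstanceAs (Subsingleton (PrimeSpectrum k))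
  haveI : Flat f := inferInstance
  haveI : Surjective f := ⟨fun y => ⟨IsLocalRing.closedPoint (AlgebraicClosure k), Subsingleton.elim _ _⟩⟩
  haveI : IsAffineHom Q.hom := MorphismProperty.of_isPullback_of_descendsAlong (P := @IsAffineHom)
    (Q := @Surjective ⊓ @Flat ⊓ @QuasiCompact) (IsPullback.of_hasPullback Q.hom f).flip
    ⟨⟨‹Surjective f›, ‹Flat f›⟩, inferInstance⟩ inferInstance
  exact isAffine_of_isAffineHom Q.hom

end Groth.Agent.ProjActLib
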