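import Groth.Agent.ProjMap.Bilin
import Groth.Prelude.Def_CoactBr

/-!
# The action of an affine group on projective space defined by a matrix representation
-/

set_option autoImplicit false
set_option backward.isDefEq.respectTransparency.types false
set_option linter.style.haveILetI false
set_option linter.unusedSectionVars false
set_option maxHeartbeats 400000

universe u

open CategoryTheory CategoryTheory.Limits MonoidalCategory CartesianMonoidalCategory MonObj AlgebraicGeometry
  HomogeneousLocalization WithConv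
open scoped TensorProduct

noncomputable section

namespace Groth.Agent.ProjActLib

open ProjMap

variable {k : Type u} [CommRing k] {A : Type u} [CommRing A] [HopfAlgebra k A] {n : ℕ}

/-- A matrix representation. -/
structure Rep (k A : Type u) [CommRing k] [CommRing A] [HopfAlgebra k A] (n : ℕ) where
  /-- the matrix -/
  M : Matrix (Fin (n + 1)) (Fin (n + 1)) A
  comul : ∀ i j, CoalgebraStruct.comul (R := k) (M i j) = ∑ l, M i l ⊗ₜ[k] M l j
  counit : ∀ i j, CoalgebraStruct.counit (R := k) (M i j) = if i = j then 1 else 0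

/-- Projective space over `k`. -/
abbrev P (k : Type u) [CommRing k] (n : ℕ) : Over (Spec (CommRingCat.of k)) :=
  Over.mk (CohB1.ProjSpace.toSpec n k)

variable {T : Type u} [CommRing T] [Algebra k T]

/-- The point with homogeneous coordinates `v`. -/
def ptP (v : Fin (n + 1) → T) (c : Fin (n + 1)) (hc : IsUnit (v c)) : CoactBr.sp k T ⟶ P k n :=
  Over.homMk (point (R := k) v c hc) (point_toSpec (R := k) v c hc)

theorem ptP_left (v : Fin (n + 1) → T) (c : Fin (n + 1)) (hc : IsUnit (v c)) :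
    (ptP (k := k) v c hc).left = point (R := k) v c hc := rfl

theorem ptP_congr (v : Fin (n + 1) → T) (c d : Fin (n + 1)) (hc : IsUnit (v c)) (hd : IsUnit (v d)) :
    ptP (k := k) v c hc = ptP v d hd :=
  Over.OverMorphism.ext (point_chart v c d hc hd)

theorem pt_comp_ptP {T' : Type u} [CommRing T'] [Algebra k T'] (f : T →ₐ[k] T') (v : Fin (n + 1) → T)
    (c : Fin (n + 1)) (hc : IsUnit (v c)) :
    CoactBr.pt f ≫ ptP v c hc = ptP (fun i => f (v i)) c (hc.map f) :=
  Over.OverMorphism.ext (specMap_point (R := k) (f : T →+* T') f.commutes v c hc)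

theorem ptP_smul (v w : Fin (n + 1) → T) (t : T) (hw : ∀ i, w i = t * v i) (c d : Fin (n + 1))
    (hc : IsUnit (v c)) (hd : IsUnit (w d)) : ptP (k := k) w d hd = ptP v c hc := by
  have hvd : IsUnit (v d) := isUnit_of_mul_isUnit_right (hw d ▸ hd)
  rw [ptP_congr v c d hc hvd]
  exact Over.OverMorphism.ext (point_smul v w t hw d hvd hd)

variable (ρ : Rep k A n)

/-- The matrix of a point of the group. -/
def Rep.mat (g : A →ₐ[k] T) : Matrix (Fin (n + 1)) (Fin (n + 1)) T := ρ.M.map g

theorem Rep.mat_mul (g h : A →ₐ[k] T) :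
    ρ.mat ((Algebra.TensorProduct.lift g h fun _ _ => .all _ _).comp (Bialgebra.comulAlgHom k A)) =
      ρ.mat g * ρ.mat h := by
  ext i j
  simp [Rep.mat, Matrix.mul_apply, ρ.comul]

theorem Rep.mat_one : ρ.mat ((Algebra.ofId k T).comp (Bialgebra.counitAlgHom k A)) = 1 := by
  ext i j
  simp only [Rep.mat, Matrix.map_apply, AlgHom.comp_apply, Bialgebra.counitAlgHom_apply, Matrix.one_apply]
  rw [show Coalgebra.counit (R := k) (ρ.M i j) = _ from ρ.counit i j]
  split <;> simp

theorem Rep.antipode_mat_mul_mat (g : A →ₐ[k] T) :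
    ρ.mat (g.comp (HopfAlgebra.antipodeAlgHom k A)) * ρ.mat g = 1 := by
  ext i j
  have h := congrArg g (HopfAlgebra.mul_antipode_rTensor_comul_apply (R := k) (ρ.M i j))
  rw [ρ.comul, map_sum, map_sum, map_sum, ρ.counit, apply_ite (algebraMap k A), map_one, map_zero,
    apply_ite g, map_one, map_zero] at h
  simp only [LinearMap.rTensor_tmul, LinearMap.mul'_apply, map_mul] at h
  simp only [Rep.mat, Matrix.mul_apply, Matrix.map_apply, Matrix.one_apply, AlgHom.comp_apply]
  exact h

theorem Rep.exists_notMem (g : A →ₐ[k] T) (v : Fin (n + 1) → T) {c : Fin (n + 1)} (hc : IsUnit (v c))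
    (y : PrimeSpectrum T) : ∃ d, (ρ.mat g).mulVec v d ∉ y.asIdeal := by
  by_contra h
  push Not at h
  have e : v c = (ρ.mat (g.comp (HopfAlgebra.antipodeAlgHom k A))).mulVec ((ρ.mat g).mulVec v) c := by
    rw [Matrix.mulVec_mulVec, ρ.antipode_mat_mul_mat, Matrix.one_mulVec]
  refine y.isPrime.ne_top (Ideal.eq_top_of_isUnit_mem _ ?_ hc)
  rw [e, Matrix.mulVec, dotProduct]
  exact Ideal.sum_mem _ fun d _ => Ideal.mul_mem_left _ _ (h d)

theorem Rep.map_mulVec {T' : Type u} [CommRing T'] [Algebra k T'] (f : T →ₐ[k] T') (g : A →ₐ[k] T)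
    (v : Fin (n + 1) → T) (i : Fin (n + 1)) :
    f ((ρ.mat g).mulVec v i) = (ρ.mat (f.comp g)).mulVec (fun j => f (v j)) i := by
  simp [Rep.mat, Matrix.mulVec, dotProduct]

/-! ## The pieces -/

variable (k A n) in
/-- The ring of the chart `i` of `G × P`. -/
abbrev pieceR (i : Fin (n + 1)) : Type u := A ⊗[k] AwayX k n i

/-- The inclusion of the group factor. -/
abbrev inA (i : Fin (n + 1)) : A →ₐ[k] pieceR k A n i := Algebra.TensorProduct.includeLeft

/-- The inclusion of the chart. -/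
abbrev inP (i : Fin (n + 1)) : AwayX k n i →ₐ[k] pieceR k A n i := Algebra.TensorProduct.includeRight

/-- The coordinates on a piece. -/
def crd (i : Fin (n + 1)) : Fin (n + 1) → pieceR k A n i := coords i (inP (A := A) i).toRingHom

theorem isUnit_crd (i : Fin (n + 1)) : IsUnit (crd (k := k) (A := A) (n := n) i i) := by
  rw [crd, coords_self]; exact isUnit_one

/-- The chart `i` of `G × P`. -/
def chartGP (i : Fin (n + 1)) : CoactBr.sp k (pieceR k A n i) ⟶ CoactBr.sp k A ⊗ P k n :=
  lift (CoactBr.pt (inA i)) (ptP (crd i) i (isUnit_crd i))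

theorem point_crd (i : Fin (n + 1)) :
    point (R := k) (crd (A := A) i) i (isUnit_crd i) =
      Spec.map (CommRingCat.ofHom (inP (A := A) i).toRingHom) ≫ chart i :=
  point_coords i (inP (A := A) i).toRingHom (inP (A := A) i).commutes

/-- The chart of the product, as a base change. -/
def chartPB (i : Fin (n + 1)) : Spec (CommRingCat.of (pieceR k A n i)) ⟶
    pullback (Spec.map (CommRingCat.ofHom (algebraMap k A))) (CohB1.ProjSpace.toSpec n k) :=
  (pullbackSpecIso k A (AwayX k n i)).inv ≫ pullback.map _ _ _ _ (𝟙 _) (chart i) (𝟙 _)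
    ((Category.comp_id _).trans (Category.id_comp _).symm) ((Category.comp_id _).trans (chart_toSpec k i).symm)

theorem chartPB_fst (i : Fin (n + 1)) :
    chartPB (k := k) (A := A) i ≫ pullback.fst _ _ = Spec.map (CommRingCat.ofHom (inA (k := k) (A := A) i).toRingHom) := by
  rw [chartPB, Category.assoc, pullback.lift_fst, ← Category.assoc, pullbackSpecIso_inv_fst, Category.comp_id]
  rfl

theorem chartPB_snd (i : Fin (n + 1)) :
    chartPB (k := k) (A := A) i ≫ pullback.snd _ _ =
      Spec.map (CommRingCat.ofHom (inP (A := A) i).toRingHom) ≫ chart i := by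
  rw [chartPB, Category.assoc, pullback.lift_snd, ← Category.assoc, pullbackSpecIso_inv_snd]
  rfl

instance isOpenImmersion_chartPB (i : Fin (n + 1)) : IsOpenImmersion (chartPB (k := k) (A := A) i) := by
  rw [chartPB]
  infer_instance

theorem chartGP_left_eq (i : Fin (n + 1)) : (chartGP (k := k) (A := A) i).left = chartPB i := by
  apply pullback.hom_ext
  · exact (congrArg CommaMorphism.left
      (lift_fst (CoactBr.pt (inA (k := k) (A := A) i)) (ptP (crd i) i (isUnit_crd i)))).trans (chartPB_fst i).symm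
  · exact ((congrArg CommaMorphism.left
      (lift_snd (CoactBr.pt (inA (k := k) (A := A) i)) (ptP (crd i) i (isUnit_crd i)))).trans (point_crd i)).trans
        (chartPB_snd i).symm

instance isOpenImmersion_chartGP (i : Fin (n + 1)) : IsOpenImmersion (chartGP (k := k) (A := A) i).left := by
  rw [chartGP_left_eq]
  exact isOpenImmersion_chartPB i

theorem exists_chartPB
    (x : ↥(pullback (Spec.map (CommRingCat.ofHom (algebraMap k A))) (CohB1.ProjSpace.toSpec n k))) :
    ∃ i : Fin (n + 1), x ∈ Set.range (chartPB (k := k) (A := A) i) := by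
  obtain ⟨i, y, hy⟩ := exists_chart k (pullback.snd (Spec.map (CommRingCat.ofHom (algebraMap k A)))
    (CohB1.ProjSpace.toSpec n k) x)
  refine ⟨i, ?_⟩
  rw [chartPB, Scheme.Hom.comp_base, TopCat.coe_comp, Set.range_comp,
    Set.range_eq_univ.mpr (by exact (pullbackSpecIso k A (AwayX k n i)).inv.homeomorph.surjective), Set.image_univ,
    Scheme.Pullback.range_map]
  exact ⟨⟨_, rfl⟩, ⟨y, hy⟩⟩

theorem exists_chartGP (x : (CoactBr.sp k A ⊗ P k n).left) :
    ∃ i : Fin (n + 1), x ∈ Set.range (chartGP (k := k) (A := A) i).left := by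
  obtain ⟨i, y, hy⟩ := exists_chartPB (k := k) (A := A) (n := n) x
  exact ⟨i, y, (congrArg (fun f => (f : Spec _ ⟶ _) y) (chartGP_left_eq i)).trans hy⟩

/-- The image coordinates on a piece. -/
def wP (i : Fin (n + 1)) : Fin (n + 1) → pieceR k A n i := (ρ.mat (inA i)).mulVec (crd i)

/-- The index set of the cover. -/
abbrev Idx (_ρ : Rep k A n) : Type := Fin (n + 1) × Fin (n + 1)

/-- The rings of the cover. -/
abbrev locR (p : Idx ρ) : Type u := Localization.Away (wP ρ p.1 p.2)

/-- The localisation map. -/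
abbrev toLoc (p : Idx ρ) : pieceR k A n p.1 →ₐ[k] locR ρ p := IsScalarTower.toAlgHom k _ _

/-- The pieces of the cover. -/
def pieceι (p : Idx ρ) : CoactBr.sp k (locR ρ p) ⟶ CoactBr.sp k A ⊗ P k n :=
  CoactBr.pt (toLoc ρ p) ≫ chartGP p.1

instance isOpenImmersion_pieceι (p : Idx ρ) : IsOpenImmersion (pieceι ρ p).left := by
  haveI : IsOpenImmersion (CoactBr.pt (toLoc ρ p)).left :=
    IsOpenImmersion.of_isLocalization (S := locR ρ p) (wP ρ p.1 p.2)
  rw [pieceι, Over.comp_left]
  infer_instance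

theorem exists_pieceι (x : (CoactBr.sp k A ⊗ P k n).left) : ∃ p : Idx ρ, x ∈ Set.range (pieceι ρ p).left := by
  obtain ⟨i, y, rfl⟩ := exists_chartGP x
  obtain ⟨c, hc⟩ := ρ.exists_notMem (inA i) (crd i) (isUnit_crd i) y
  obtain ⟨z, hz⟩ : y ∈ Set.range (PrimeSpectrum.comap
      (algebraMap (pieceR k A n i) (Localization.Away (wP ρ i c)))) := by
    rw [PrimeSpectrum.localization_away_comap_range (Localization.Away (wP ρ i c)) (wP ρ i c)]
    exact hc
  refine ⟨(i, c), z, ?_⟩
  rw [pieceι, Over.comp_left, Scheme.Hom.comp_apply]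
  exact congrArg (chartGP i).left hz

/-- The map on a piece. -/
def pieceMap (p : Idx ρ) : CoactBr.sp k (locR ρ p) ⟶ P k n :=
  ptP (fun c => toLoc ρ p (wP ρ p.1 c)) p.2 (IsLocalization.Away.algebraMap_isUnit _)

theorem pieceMap_agree {T : Type u} [CommRing T] [Algebra k T] (p p' : Idx ρ) (f : locR ρ p →ₐ[k] T)
    (g : locR ρ p' →ₐ[k] T) (h : CoactBr.pt f ≫ pieceι ρ p = CoactBr.pt g ≫ pieceι ρ p') :
    CoactBr.pt f ≫ pieceMap ρ p = CoactBr.pt g ≫ pieceMap ρ p' := by
  have hA : (f.comp (toLoc ρ p)).comp (inA p.1) = (g.comp (toLoc ρ p')).comp (inA p'.1) := by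
    have := congrArg (· ≫ fst _ _) h
    simp only [pieceι, chartGP, Category.assoc, lift_fst] at this
    simp only [← CoactBr.pt_comp] at this
    exact CoactBr.pt_injective this
  have hP := congrArg (· ≫ snd _ _) h
  simp only [pieceι, chartGP, Category.assoc, lift_snd] at hP
  rw [← Category.assoc, ← Category.assoc, ← CoactBr.pt_comp, ← CoactBr.pt_comp] at hP
  have hP' := congrArg CommaMorphism.left hP
  simp only [Over.comp_left, ptP_left, point_crd, CoactBr.pt_left] at hP'
  have hP' := ((Category.assoc _ _ _).trans hP').trans (Category.assoc _ _ _).symm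
  have hP' := ((congrArg (· ≫ chart p.1) (Spec.map_comp _ _)).trans hP').trans (congrArg (· ≫ chart p'.1) (Spec.map_comp _ _).symm)
  obtain ⟨t, ht, htc⟩ := exists_smul_of_comp_eq (R := k)
    (((f.comp (toLoc ρ p)).comp (inP (A := A) p.1)).toRingHom)
    (((g.comp (toLoc ρ p')).comp (inP (A := A) p'.1)).toRingHom) (by exact hP')
  have htc' : (fun j => g (toLoc ρ p' (crd p'.1 j))) = t • fun j => f (toLoc ρ p (crd p.1 j)) := funext htc
  have hw : ∀ i, g (toLoc ρ p' (wP ρ p'.1 i)) = t * f (toLoc ρ p (wP ρ p.1 i)) := fun i => by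
    change (g.comp (toLoc ρ p')) ((ρ.mat (inA p'.1)).mulVec (crd p'.1) i) =
      t * (f.comp (toLoc ρ p)) ((ρ.mat (inA p.1)).mulVec (crd p.1) i)
    rw [ρ.map_mulVec, ρ.map_mulVec, ← hA]
    simp only [AlgHom.comp_apply]
    rw [htc', Matrix.mulVec_smul]
    rfl
  rw [pieceMap, pieceMap, pt_comp_ptP, pt_comp_ptP]
  exact (ptP_smul _ _ t hw _ _ _ _).symm

/-- The cover. -/
def cover : (CoactBr.sp k A ⊗ P k n).left.OpenCover :=
  Scheme.Cover.mkOfCovers (Idx ρ) (fun p => Spec (CommRingCat.of (locR ρ p))) (fun p => (pieceι ρ p).left)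
    (fun x => by obtain ⟨p, y, hy⟩ := exists_pieceι ρ x; exact ⟨p, y, hy⟩)
    (fun p => isOpenImmersion_pieceι ρ p)

theorem pieceMap_glue (p p' : Idx ρ) :
    pullback.fst (pieceι ρ p).left (pieceι ρ p').left ≫ (pieceMap ρ p).left =
      pullback.snd (pieceι ρ p).left (pieceι ρ p').left ≫ (pieceMap ρ p').left := by
  let W := pullback (pieceι ρ p).left (pieceι ρ p').left
  refine W.affineCover.hom_ext _ _ fun j => ?_
  obtain ⟨f, hf⟩ := Spec.map_surjective (W.affineCover.f j ≫ pullback.fst _ _)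
  obtain ⟨g, hg⟩ := Spec.map_surjective (W.affineCover.f j ≫ pullback.snd _ _)
  have hfg : Spec.map f ≫ (pieceι ρ p).left = Spec.map g ≫ (pieceι ρ p').left := by
    rw [hf, hg]
    exact (Category.assoc _ _ _).trans ((congrArg (_ ≫ ·) pullback.condition).trans (Category.assoc _ _ _).symm)
  letI : Algebra k _ := (f.hom.comp (algebraMap k (locR ρ p))).toAlgebra
  have hgk : ∀ r : k, g (algebraMap k (locR ρ p') r) = f (algebraMap k (locR ρ p) r) := by
    have hh := congrArg (· ≫ (CoactBr.sp k A ⊗ P k n).hom) hfg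
    have hh := ((Category.assoc _ _ _).symm.trans hh).trans (Category.assoc _ _ _)
    have hh := ((congrArg (Spec.map f ≫ ·) (Over.w (pieceι ρ p))).symm.trans hh).trans (congrArg (Spec.map g ≫ ·) (Over.w (pieceι ρ p')))
    have h2 : CommRingCat.ofHom (algebraMap k (locR ρ p)) ≫ f = CommRingCat.ofHom (algebraMap k (locR ρ p')) ≫ g := by
      apply Spec.map_injective
      rw [Spec.map_comp, Spec.map_comp]
      exact hh
    exact fun r => (DFunLike.congr_fun (congrArg CommRingCat.Hom.hom h2) r).symm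
  have key := pieceMap_agree ρ p p' (T := _) ⟨f.hom, fun r => rfl⟩ ⟨g.hom, hgk⟩ (Over.OverMorphism.ext hfg)
  refine ((Category.assoc _ _ _).symm.trans ?_).trans (Category.assoc _ _ _)
  refine (congrArg (· ≫ (pieceMap ρ p).left) hf.symm).trans (Eq.trans ?_ (congrArg (· ≫ (pieceMap ρ p').left) hg))
  exact congrArg CommaMorphism.left key

/-- The action map on underlying schemes. -/
def actLeft : (CoactBr.sp k A ⊗ P k n).left ⟶ (P k n).left :=
  (cover ρ).glueMorphisms (fun p => (pieceMap ρ p).left) (fun p p' => pieceMap_glue ρ p p')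

theorem pieceι_actLeft (p : Idx ρ) : (pieceι ρ p).left ≫ actLeft ρ = (pieceMap ρ p).left :=
  (cover ρ).ι_glueMorphisms _ _ p

theorem actLeft_toSpec : actLeft ρ ≫ (P k n).hom = (CoactBr.sp k A ⊗ P k n).hom := by
  refine (cover ρ).hom_ext _ _ fun p => ?_
  show (pieceι ρ p).left ≫ actLeft ρ ≫ (P k n).hom = (pieceι ρ p).left ≫ _
  rw [← Category.assoc, pieceι_actLeft, Over.w (pieceMap ρ p), Over.w (pieceι ρ p)]

/-- The action map. -/
def actMap : CoactBr.sp k A ⊗ P k n ⟶ P k n := Over.homMk (actLeft ρ) (actLeft_toSpec ρ)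

theorem pieceι_actMap (p : Idx ρ) : pieceι ρ p ≫ actMap ρ = pieceMap ρ p :=
  Over.OverMorphism.ext (pieceι_actLeft ρ p)

theorem lift_pt_ptP_actMap {T : Type u} [CommRing T] [Algebra k T] (g : A →ₐ[k] T) (v : Fin (n + 1) → T)
    (c d : Fin (n + 1)) (hc : IsUnit (v c)) (hd : IsUnit ((ρ.mat g).mulVec v d)) :
    lift (CoactBr.pt g) (ptP v c hc) ≫ actMap ρ = ptP ((ρ.mat g).mulVec v) d hd := by
  have hu : IsUnit (MvPolynomial.aeval v (MvPolynomial.X c : MvPolynomial (Fin (n + 1)) k)) := by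
    simpa using hc
  let e : AwayX k n c →ₐ[k] T :=
    ⟨evalAway (R := k) v (MvPolynomial.X c) hu, fun r => evalAway_fromZero v _ hu r⟩
  let φ : pieceR k A n c →ₐ[k] T := Algebra.TensorProduct.lift g e fun _ _ => .all _ _
  have hφA : φ.comp (inA c) = g := by ext a; simp [φ]
  have hcrd : ∀ i, φ (crd c i) * v c = v i := fun i => by
    have h := evalAway_mk (v := v) (R := k) (X_mem c) hu 1 (MvPolynomial.X i)
      (by simpa using X_mem (R := k) i)
    simp only [MvPolynomial.aeval_X, pow_one] at h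
    have he : φ (crd c i) = e (Away.mk _ (X_mem c) 1 (MvPolynomial.X i) (by simpa using X_mem (R := k) i)) := by
      simp [φ, crd, coords]
    rw [he]
    exact h
  have hv : v = v c • fun i => φ (crd c i) := funext fun i => by
    show v i = v c * φ (crd c i)
    rw [mul_comm]; exact (hcrd i).symm
  have hw : ∀ i, (ρ.mat g).mulVec v i = v c * φ (wP ρ c i) := fun i => by
    rw [wP, ρ.map_mulVec, hφA]
    conv_lhs => rw [hv, Matrix.mulVec_smul]
    rfl
  have hud : IsUnit (φ (wP ρ c d)) := isUnit_of_mul_isUnit_right (hw d ▸ hd)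
  let ψ : locR ρ (c, d) →ₐ[k] T := IsLocalization.liftAlgHom (M := Submonoid.powers (wP ρ c d)) (f := φ)
    (by rintro ⟨_, m, rfl⟩; rw [map_pow]; exact hud.pow m)
  have hψ : ψ.comp (toLoc ρ (c, d)) = φ := by
    refine AlgHom.ext fun x => ?_
    exact IsLocalization.lift_eq _ x
  have h1 : lift (CoactBr.pt g) (ptP v c hc) = CoactBr.pt ψ ≫ pieceι ρ (c, d) := by
    rw [pieceι, ← Category.assoc, ← CoactBr.pt_comp, hψ, chartGP, comp_lift, ← CoactBr.pt_comp, hφA,
      pt_comp_ptP, ptP_smul (fun i => φ (crd c i)) v (v c) (congrFun hv) c c ((isUnit_crd c).map φ) hc]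
  rw [h1, Category.assoc, pieceι_actMap, pieceMap, pt_comp_ptP]
  refine (ptP_smul _ _ (v c) (fun i => ?_) _ _ _ _).symm
  rw [hw, ← hψ]
  rfl

/-- Locally every point of projective space has coordinates. -/
theorem exists_coords {W : Over (Spec (CommRingCat.of k))} (p : W ⟶ P k n) (x : W.left) :
    ∃ (T : Type u) (_ : CommRing T) (_ : Algebra k T) (j : CoactBr.sp k T ⟶ W) (v : Fin (n + 1) → T)
      (c : Fin (n + 1)) (hc : IsUnit (v c)),
      IsOpenImmersion j.left ∧ x ∈ Set.range j.left ∧ j ≫ p = ptP v c hc := by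
  obtain ⟨c, hc⟩ := exists_chart k (p.left x)
  obtain ⟨U, hU, hxU, hle⟩ :=
    exists_isAffineOpen_mem_and_subset (U := p.left ⁻¹ᵁ (chart (R := k) c).opensRange) hc
  letI : Algebra k Γ(W.left, U) := (Spec.preimage (hU.fromSpec ≫ W.hom)).hom.toAlgebra
  let j : CoactBr.sp k Γ(W.left, U) ⟶ W := Over.homMk hU.fromSpec (by
    exact (Spec.map_preimage (hU.fromSpec ≫ W.hom)).symm)
  have hr : Set.range (hU.fromSpec ≫ p.left) ⊆ Set.range (chart (R := k) c) := by
    rintro _ ⟨y, rfl⟩
    exact hle (hU.range_fromSpec.le ⟨y, rfl⟩)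
  obtain ⟨φ, hφ⟩ := Spec.map_surjective (IsOpenImmersion.lift (chart (R := k) c) (hU.fromSpec ≫ p.left) hr)
  have hφ' : Spec.map φ ≫ chart c = hU.fromSpec ≫ p.left := by rw [hφ, IsOpenImmersion.lift_fac]
  have hφa : IsAlg c φ.hom := isAlg_of_toSpec c φ.hom (by
    show Spec.map φ ≫ chart c ≫ _ = _
    rw [← Category.assoc, hφ', Category.assoc]
    exact (congrArg (hU.fromSpec ≫ ·) (Over.w p)).trans (Spec.map_preimage (hU.fromSpec ≫ W.hom)).symm)
  refine ⟨_, inferInstance, inferInstance, j, coords c φ.hom, c, by rw [coords_self]; exact isUnit_one,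
    (inferInstance : IsOpenImmersion hU.fromSpec), hU.range_fromSpec.ge hxU, Over.OverMorphism.ext ?_⟩
  rw [Over.comp_left]
  exact hφ'.symm.trans (point_coords c φ.hom hφa).symm

/-- Localisation at a function. -/
def ptAway (w : T) : CoactBr.sp k (Localization.Away w) ⟶ CoactBr.sp k T :=
  CoactBr.pt (IsScalarTower.toAlgHom k T _)

instance isOpenImmersion_ptAway (w : T) : IsOpenImmersion (ptAway (k := k) w).left :=
  IsOpenImmersion.of_isLocalization (S := Localization.Away w) w

theorem mem_range_ptAway (w : T) (y : PrimeSpectrum T) (hy : w ∉ y.asIdeal) :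
    y ∈ Set.range (ptAway (k := k) w).left := by
  show y ∈ Set.range (PrimeSpectrum.comap (algebraMap T (Localization.Away w)))
  rw [PrimeSpectrum.localization_away_comap_range (Localization.Away w) w]
  exact hy

/-- Morphisms agreeing locally agree. -/
theorem hom_ext_local {W X : Over (Spec (CommRingCat.of k))} (f f' : W ⟶ X)
    (h : ∀ x : W.left, ∃ (V : Over (Spec (CommRingCat.of k))) (j : V ⟶ W),
      IsOpenImmersion j.left ∧ x ∈ Set.range j.left ∧ j ≫ f = j ≫ f') : f = f' := by
  choose V j hj hx he using h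
  let 𝒰 : W.left.OpenCover := Scheme.Cover.mkOfCovers W.left (fun x => (V x).left) (fun x => (j x).left)
    (fun x => by obtain ⟨y, hy⟩ := hx x; exact ⟨x, y, hy⟩) hj
  exact Over.OverMorphism.ext (𝒰.hom_ext _ _ fun x => congrArg CommaMorphism.left (he x))

theorem mul_pt {g h : A →ₐ[k] T} :
    CoactBr.pt g * CoactBr.pt h =
      CoactBr.pt ((Algebra.TensorProduct.lift g h fun _ _ => .all _ _).comp (Bialgebra.comulAlgHom k A)) :=
  CoactBr.pt_mul_pt g h

theorem comp_lift_comul {T' : Type u} [CommRing T'] [Algebra k T'] (f : T →ₐ[k] T') (g h : A →ₐ[k] T) :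
    f.comp ((Algebra.TensorProduct.lift g h fun _ _ => .all _ _).comp (Bialgebra.comulAlgHom k A)) =
      (Algebra.TensorProduct.lift (f.comp g) (f.comp h) fun _ _ => .all _ _).comp (Bialgebra.comulAlgHom k A) := by
  rw [← AlgHom.comp_assoc]
  congr 1
  ext a <;> simp

theorem exists_pt (u : CoactBr.sp k T ⟶ CoactBr.sp k A) : ∃ g : A →ₐ[k] T, CoactBr.pt g = u :=
  ⟨(Spec.mapMulEquiv.symm u).ofConv, Spec.mapMulEquiv.apply_symm_apply u⟩

theorem actMap_one {W : Over (Spec (CommRingCat.of k))} (p : W ⟶ P k n) :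
    lift (1 : W ⟶ CoactBr.sp k A) p ≫ actMap ρ = p := by
  refine hom_ext_local _ _ fun x => ?_
  obtain ⟨T, _, _, j, v, c, hc, hj, hx, hp⟩ := exists_coords p x
  refine ⟨_, j, hj, hx, ?_⟩
  have hone : (ρ.mat ((Algebra.ofId k T).comp (Bialgebra.counitAlgHom k A))).mulVec v = v := by
    rw [ρ.mat_one, Matrix.one_mulVec]
  rw [← Category.assoc, comp_lift, MonObj.comp_one, hp, CoactBr.one_eq_pt,
    lift_pt_ptP_actMap ρ _ v c c hc (by rw [hone]; exact hc)]
  simp only [hone]

theorem actMap_mul {W : Over (Spec (CommRingCat.of k))} (g h : W ⟶ CoactBr.sp k A) (p : W ⟶ P k n) :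
    lift (g * h) p ≫ actMap ρ = lift g (lift h p ≫ actMap ρ) ≫ actMap ρ := by
  refine hom_ext_local _ _ fun x => ?_
  obtain ⟨T, _, _, j, v, c, hc, hj, hx, hp⟩ := exists_coords p x
  obtain ⟨y, rfl⟩ := hx
  obtain ⟨g₁, hg₁⟩ := exists_pt (j ≫ g)
  obtain ⟨h₁, hh₁⟩ := exists_pt (j ≫ h)
  obtain ⟨d, hd⟩ := ρ.exists_notMem h₁ v hc y
  obtain ⟨e, he⟩ := ρ.exists_notMem
    ((Algebra.TensorProduct.lift g₁ h₁ fun _ _ => .all _ _).comp (Bialgebra.comulAlgHom k A)) v hc y
  let w := (ρ.mat h₁).mulVec v d *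
    (ρ.mat ((Algebra.TensorProduct.lift g₁ h₁ fun _ _ => .all _ _).comp (Bialgebra.comulAlgHom k A))).mulVec v e
  have hwy : w ∉ y.asIdeal := fun hh => (y.isPrime.mem_or_mem hh).elim hd he
  let f : T →ₐ[k] Localization.Away w := IsScalarTower.toAlgHom k T _
  have hw : IsUnit (f w) := IsLocalization.Away.algebraMap_isUnit _
  rw [map_mul, IsUnit.mul_iff] at hw
  haveI := hj
  haveI : IsOpenImmersion (ptAway (k := k) w ≫ j).left := by rw [Over.comp_left]; infer_instance
  refine ⟨_, ptAway w ≫ j, inferInstance, ?_, ?_⟩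
  · obtain ⟨z, hz⟩ := mem_range_ptAway (k := k) w y hwy
    exact ⟨z, congrArg j.left hz⟩
  have hpf : (ptAway w ≫ j) ≫ p = ptP (fun i => f (v i)) c (hc.map f) := by
    rw [Category.assoc, hp]; exact pt_comp_ptP f v c hc
  have hgf : (ptAway w ≫ j) ≫ g = CoactBr.pt (f.comp g₁) := by
    rw [Category.assoc, ← hg₁, CoactBr.pt_comp]; rfl
  have hhf : (ptAway w ≫ j) ≫ h = CoactBr.pt (f.comp h₁) := by
    rw [Category.assoc, ← hh₁, CoactBr.pt_comp]; rfl
  have hd' : IsUnit ((ρ.mat (f.comp h₁)).mulVec (fun i => f (v i)) d) := by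
    rw [← ρ.map_mulVec]; exact hw.1
  have hmul : (ρ.mat ((Algebra.TensorProduct.lift (f.comp g₁) (f.comp h₁) fun _ _ => .all _ _).comp
      (Bialgebra.comulAlgHom k A))).mulVec (fun i => f (v i)) =
        (ρ.mat (f.comp g₁)).mulVec ((ρ.mat (f.comp h₁)).mulVec fun i => f (v i)) := by
    rw [ρ.mat_mul, Matrix.mulVec_mulVec]
  have he' : IsUnit ((ρ.mat (f.comp g₁)).mulVec ((ρ.mat (f.comp h₁)).mulVec fun i => f (v i)) e) := by
    have := hw.2
    rw [ρ.map_mulVec, comp_lift_comul f] at this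
    rw [← hmul]
    exact this
  simp only [← Category.assoc]
  rw [comp_lift, comp_lift, MonObj.comp_mul, hpf, hgf, hhf, ← Category.assoc, comp_lift, hpf, hhf,
    lift_pt_ptP_actMap ρ _ _ _ d _ hd', lift_pt_ptP_actMap ρ _ _ _ e _ he', mul_pt,
    lift_pt_ptP_actMap ρ _ _ _ e _ (by rw [hmul]; exact he')]
  simp only [hmul]

/-- The action on projective space. -/
def action : AlgGrp.Action (CoactBr.sp k A) (P k n) where
  act := actMap ρ
  one_act := by
    have h := actMap_one ρ (snd (𝟙_ (Over (Spec (CommRingCat.of k)))) (P k n))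
    have e : (η[CoactBr.sp k A] ▷ P k n) =
        lift (1 : 𝟙_ (Over (Spec (CommRingCat.of k))) ⊗ P k n ⟶ CoactBr.sp k A) (snd _ _) := by
      apply CartesianMonoidalCategory.hom_ext
      · rw [whiskerRight_fst, lift_fst, Hom.one_def]
        exact congrArg (· ≫ _) (toUnit_unique _ _)
      · rw [whiskerRight_snd, lift_snd]
    rw [e, h, leftUnitor_hom]
  mul_act := by
    let G := CoactBr.sp k A
    let X := P k n
    have e1 : (μ[G] ▷ X) = lift ((fst (G ⊗ G) X ≫ fst G G) * (fst (G ⊗ G) X ≫ snd G G)) (snd (G ⊗ G) X) := by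
      apply CartesianMonoidalCategory.hom_ext
      · rw [whiskerRight_fst, lift_fst, Hom.mul_def, ← comp_lift, lift_fst_snd, Category.comp_id]
      · rw [whiskerRight_snd, lift_snd]
    have e2 : (α_ G G X).hom ≫ (G ◁ actMap ρ) = lift (fst (G ⊗ G) X ≫ fst G G)
        (lift (fst (G ⊗ G) X ≫ snd G G) (snd (G ⊗ G) X) ≫ actMap ρ) := by
      apply CartesianMonoidalCategory.hom_ext
      · rw [lift_fst, Category.assoc, whiskerLeft_fst, associator_hom_fst]
      · rw [lift_snd, Category.assoc, whiskerLeft_snd, ← Category.assoc]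
        congr 1
        apply CartesianMonoidalCategory.hom_ext
        · rw [lift_fst, Category.assoc, associator_hom_snd_fst]
        · rw [lift_snd, Category.assoc, associator_hom_snd_snd]
    show (μ[G] ▷ X) ≫ actMap ρ = (α_ G G X).hom ≫ (G ◁ actMap ρ) ≫ actMap ρ
    rw [← Category.assoc, e1, e2]
    exact actMap_mul ρ _ _ _

end Groth.Agent.ProjActLib
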