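import Groth.Agent.ProjActLib.Stab
import Groth.Agent.HopfFF.Linear
import Groth.Agent.Comodule.Antipode
import Groth.Agent.HopfFF.Image

/-!
# A normal subgroup of a reduced affine group is the kernel of a representation
-/

set_option autoImplicit false
set_option backward.isDefEq.respectTransparency.types false
set_option linter.style.haveILetI false
set_option linter.unusedSectionVars false

universe u

open CategoryTheory CategoryTheory.Limits MonoidalCategory CartesianMonoidalCategory MonObj AlgebraicGeometry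
  HomogeneousLocalization WithConv
open scoped TensorProduct

noncomputable section

namespace Groth.Agent.ProjActLib

variable {k : Type u} [Field k] {A : Type u} [CommRing A] [HopfAlgebra k A]

/-- Rational points separate functions on a reduced algebra of finite type. -/
theorem eq_zero_of_points [IsAlgClosed k] [IsReduced A] [Algebra.FiniteType k A] {a : A}
    (h : ∀ g : A →ₐ[k] k, g a = 0) : a = 0 := by
  haveI : IsJacobsonRing A := isJacobsonRing_of_finiteType (A := k)
  have hrad : (⊥ : Ideal A).IsRadical := fun x hx => by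
    obtain ⟨n, hn⟩ := hx
    exact (Ideal.mem_bot).mpr (eq_zero_of_pow_eq_zero (Ideal.mem_bot.mp hn))
  have h0 : (⊥ : Ideal A).jacobson = ⊥ := IsJacobsonRing.out inferInstance hrad
  rw [← Ideal.mem_bot, ← h0, Ideal.jacobson, Ideal.mem_sInf]
  rintro q ⟨-, hq⟩
  haveI := hq
  letI := Ideal.Quotient.field q
  haveI : Module.Finite k (A ⧸ q) := finite_of_finite_type_of_isJacobsonRing k (A ⧸ q)
  let e : k ≃ₐ[k] A ⧸ q :=
    AlgEquiv.ofBijective (Algebra.ofId k (A ⧸ q)) IsAlgClosed.algebraMap_bijective_of_isIntegral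
  have := h (e.symm.toAlgHom.comp (Ideal.Quotient.mkₐ k q))
  simpa [Ideal.Quotient.eq_zero_iff_mem] using this

/-- Maps out of `GL_n` are determined by the entries. -/
theorem algHom_ext_of_X {N : ℕ} {T : Type u} [CommRing T] [Algebra k T] {f g : CoordGrp.GLn N k →ₐ[k] T}
    (h : ∀ i j, f (CoordGrp.GLn.X i j) = g (CoordGrp.GLn.X i j)) : f = g := by
  refine CoordGrp.GLn.algHom_ext h ?_
  have hd : f (CoordGrp.GLn.det : CoordGrp.GLn N k) = g CoordGrp.GLn.det := by
    rw [CoordGrp.GLn.det_eq, AlgHom.map_det, AlgHom.map_det]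
    congr 1
    ext i j
    exact h i j
  have e1 : f CoordGrp.GLn.Dinv * f CoordGrp.GLn.det = 1 := by
    rw [← map_mul, CoordGrp.GLn.Dinv_mul_det, map_one]
  have e2 : g CoordGrp.GLn.det * g CoordGrp.GLn.Dinv = 1 := by
    rw [← map_mul, mul_comm, CoordGrp.GLn.Dinv_mul_det, map_one]
  rw [← hd] at e2
  exact left_inv_eq_right_inv e1 e2

variable {n : ℕ} (ρ : Rep k A n)

/-- Restriction to a stable set of coordinates. -/
def Rep.restrict {m : ℕ} (f : Fin (m + 1) → Fin (n + 1)) (hf : Function.Injective f)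
    (h : ∀ (a : Fin (n + 1)) (c : Fin (m + 1)), a ∉ Set.range f → ρ.M a (f c) = 0) : Rep k A m where
  M := Matrix.of fun a c => ρ.M (f a) (f c)
  comul a c := by
    classical
    show CoalgebraStruct.comul (R := k) (ρ.M (f a) (f c)) = _
    rw [ρ.comul, ← Finset.sum_subset (Finset.subset_univ (Finset.univ.map ⟨f, hf⟩)) (fun l _ hl => ?_),
      Finset.sum_map]
    · rfl
    · rw [h l c (by simpa using hl), TensorProduct.tmul_zero]
  counit a c := by
    show CoalgebraStruct.counit (R := k) (ρ.M (f a) (f c)) = _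
    simp [ρ.counit, hf.eq_iff]

variable {B : Type u} [CommRing B] [HopfAlgebra k B] (π : A →ₐc[k] B)

/-- Conjugation by rational points preserves the subgroup. -/
def PtNormal : Prop :=
  ∀ g : A →ₐ[k] k, ∃ ν : B →ₐ[k] B,
    CoactBr.pt (ν.comp (π : A →ₐ[k] B)) * (CoactBr.pt ((Algebra.ofId k B).comp g))⁻¹ =
      (CoactBr.pt ((Algebra.ofId k B).comp g))⁻¹ * CoactBr.pt (π : A →ₐ[k] B)

variable {π}

theorem PtNormal.mat_eq (hn : PtNormal π) (g : A →ₐ[k] k) :
    ∃ ν : B →ₐ[k] B,
      ρ.mat (ν.comp (π : A →ₐ[k] B)) * ρ.mat (((Algebra.ofId k B).comp g).comp (HopfAlgebra.antipodeAlgHom k A)) =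
        ρ.mat (((Algebra.ofId k B).comp g).comp (HopfAlgebra.antipodeAlgHom k A)) * ρ.mat (π : A →ₐ[k] B) := by
  obtain ⟨ν, hν⟩ := hn g
  refine ⟨ν, ?_⟩
  rw [CoactBr.pt_inv, CoactBr.pt_mul_pt, CoactBr.pt_mul_pt] at hν
  rw [← ρ.mat_mul, ← ρ.mat_mul, CoactBr.pt_injective hν]

theorem mat_ofId_comp (g : A →ₐ[k] k) (a b : Fin (n + 1)) :
    ρ.mat ((Algebra.ofId k B).comp g) a b = algebraMap k B (g (ρ.M a b)) := rfl

theorem PtNormal.mat_eq' (hn : PtNormal π) (g : A →ₐ[k] k) :
    ∃ ν : B →ₐ[k] B, ρ.mat (π : A →ₐ[k] B) * ρ.mat ((Algebra.ofId k B).comp g) =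
      ρ.mat ((Algebra.ofId k B).comp g) * ρ.mat (ν.comp (π : A →ₐ[k] B)) ∧
      ρ.mat (ν.comp (π : A →ₐ[k] B)) * ρ.mat (((Algebra.ofId k B).comp g).comp (HopfAlgebra.antipodeAlgHom k A)) =
        ρ.mat (((Algebra.ofId k B).comp g).comp (HopfAlgebra.antipodeAlgHom k A)) * ρ.mat (π : A →ₐ[k] B) := by
  obtain ⟨ν, hν⟩ := hn.mat_eq ρ g
  refine ⟨ν, ?_, hν⟩
  have h1 := ρ.antipode_mat_mul_mat ((Algebra.ofId k B).comp g)
  have h2 : ρ.mat ((Algebra.ofId k B).comp g) *
      ρ.mat (((Algebra.ofId k B).comp g).comp (HopfAlgebra.antipodeAlgHom k A)) = 1 := mul_eq_one_comm.mp h1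
  have h3 := congrArg (fun X => ρ.mat ((Algebra.ofId k B).comp g) * X * ρ.mat ((Algebra.ofId k B).comp g)) hν
  simp only [Matrix.mul_assoc, h1, Matrix.mul_one] at h3
  rw [← Matrix.mul_assoc _ _ (ρ.mat (π : A →ₐ[k] B) * _), h2, Matrix.one_mul] at h3
  exact h3.symm

theorem algebraMap_ne_zero_isUnit {x : k} (hx : x ≠ 0) : IsUnit (algebraMap k B x) :=
  (IsUnit.mk0 x hx).map (algebraMap k B)

/-- The eigenvectors of the subgroup span a stable subspace. -/
theorem exists_diagonal [IsAlgClosed k] [IsReduced A] [Algebra.FiniteType k A] (hπ : Function.Surjective π)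
    (hn : PtNormal π) :
    ∃ (m : ℕ) (ρ : Rep k A m) (c₀ : Fin (m + 1)) (χ : Fin (m + 1) → B),
      (∀ a c, π (ρ.M a c) = if a = c then χ c else 0) ∧
      ∀ (T : Type u) [CommRing T] [Algebra k T] (g : A →ₐ[k] T),
        (∀ i, i ≠ c₀ → g (ρ.M i c₀) = 0) → ∀ a ∈ RingHom.ker (π : A →+* B), g a = 0 := by
  classical
  haveI : IsNoetherianRing A := Algebra.FiniteType.isNoetherianRing k A
  obtain ⟨V, _, _, c, _, v, χ, hv, -, hv', hstab⟩ := Comodule.exists_line_stabilizer π
  let E : Set V := {w | ∃ ψ : B, Comodule.ptAct c (π : A →ₐ[k] B) w = w ⊗ₜ[k] ψ}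
  have hli : LinearIndepOn k id ({v} : Set V) := linearIndepOn_singleton_iff k |>.mpr hv
  have hvE : ({v} : Set V) ⊆ E := Set.singleton_subset_iff.mpr ⟨χ, hv'⟩
  let s := hli.extend hvE
  have hs : LinearIndepOn k id s := hli.linearIndepOn_extend hvE
  have hvs : v ∈ s := hli.subset_extend hvE rfl
  have hsE : s ⊆ E := hli.extend_subset hvE
  have hEs : E ⊆ Submodule.span k s := hli.subset_span_extend hvE
  let t := hs.extend (Set.subset_univ s)
  let b₁ : Module.Basis t k V := Module.Basis.extend hs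
  have hst : s ⊆ t := hs.subset_extend _
  haveI : Fintype t := FiniteDimensional.fintypeBasisIndex b₁
  haveI : Nonempty t := ⟨⟨v, hst hvs⟩⟩
  obtain ⟨N, hN⟩ : ∃ N, Fintype.card t = N + 1 := Nat.exists_eq_succ_of_ne_zero Fintype.card_ne_zero
  let e : t ≃ Fin (N + 1) := (Fintype.equivFin t).trans (finCongr hN)
  let b : Module.Basis (Fin (N + 1)) k V := b₁.reindex e
  let ρ := ofComod b c
  haveI : Fintype s := Fintype.ofInjective (Set.inclusion hst) (Set.inclusion_injective hst)
  haveI : Nonempty s := ⟨⟨v, hvs⟩⟩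
  obtain ⟨m, hm⟩ : ∃ m, Fintype.card s = m + 1 := Nat.exists_eq_succ_of_ne_zero Fintype.card_ne_zero
  let e' : s ≃ Fin (m + 1) := (Fintype.equivFin s).trans (finCongr hm)
  let f : Fin (m + 1) → Fin (N + 1) := fun a => e (Set.inclusion hst (e'.symm a))
  have hf : Function.Injective f :=
    e.injective.comp ((Set.inclusion_injective hst).comp e'.symm.injective)
  have hbf : ∀ a, b (f a) = (e'.symm a : V) := fun a => by
    simp only [b, b₁, f, Module.Basis.reindex_apply, Equiv.symm_apply_apply]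
    exact Module.Basis.extend_apply_self hs _
  have hcol : ∀ a, ∃ ψ : B, ∀ i, π (ρ.M i (f a)) = if i = f a then ψ else 0 := fun a => by
    obtain ⟨ψ, hψ⟩ := hsE (e'.symm a).2
    refine ⟨ψ, fun i => ?_⟩
    rw [← hbf, ptAct_basis] at hψ
    have h := congrArg (coef b B i) hψ
    rw [coef_sum, coef_tmul, b.coord_apply, b.repr_self, Finsupp.single_apply] at h
    refine h.trans ?_
    by_cases hi : i = f a
    · subst hi; simp
    · simp [hi, Ne.symm hi]
  choose ψ hψ using hcol
  have hzero : ∀ (a : Fin (N + 1)) (d : Fin (m + 1)), a ∉ Set.range f → ρ.M a (f d) = 0 := by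
    intro a d ha
    refine eq_zero_of_points (k := k) fun g => ?_
    obtain ⟨ν, hν, -⟩ := hn.mat_eq' ρ g
    let w : V := ∑ j, g (ρ.M j (f d)) • b j
    have hwE : w ∈ E := by
      refine ⟨ν (ψ d), ?_⟩
      have h1 : Comodule.ptAct c (π : A →ₐ[k] B) w =
          ∑ j, g (ρ.M j (f d)) • ∑ i, b i ⊗ₜ[k] π (ρ.M i j) := by
        have := ptAct_basis b c (π : A →ₐ[k] B)
        simp only [w, Comodule.ptAct, map_sum, map_smul] at this ⊢
        simp only [this]
        rfl
      have h2 : ∀ i, ∑ j, π (ρ.M i j) * algebraMap k B (g (ρ.M j (f d))) =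
          algebraMap k B (g (ρ.M i (f d))) * ν (ψ d) := fun i => by
        have h := congrFun (congrFun hν i) (f d)
        simp only [Matrix.mul_apply] at h
        refine h.trans ?_
        rw [Finset.sum_eq_single (f d)]
        · show _ * ν (π (ρ.M (f d) (f d))) = _
          rw [hψ d, if_pos rfl]
          rfl
        · intro l _ hl
          show _ * ν (π (ρ.M l (f d))) = 0
          rw [hψ d, if_neg hl, map_zero, mul_zero]
        · simp
      rw [h1]
      simp only [Finset.smul_sum]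
      rw [Finset.sum_comm, show w ⊗ₜ[k] ν (ψ d) = ∑ i, b i ⊗ₜ[k] (algebraMap k B (g (ρ.M i (f d))) * ν (ψ d)) by
        simp [w, TensorProduct.sum_tmul, TensorProduct.smul_tmul, Algebra.smul_def]]
      refine Finset.sum_congr rfl fun i _ => ?_
      rw [← h2 i, TensorProduct.tmul_sum]
      refine Finset.sum_congr rfl fun j _ => ?_
      rw [← TensorProduct.tmul_smul, Algebra.smul_def, mul_comm]
    have hw0 : ∀ u ∈ Submodule.span k s, b.coord a u = 0 := by
      intro u hu
      induction hu using Submodule.span_induction with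
      | mem u hu =>
        have e0 : u = b (f (e' ⟨u, hu⟩)) := by rw [hbf, Equiv.symm_apply_apply]
        rw [e0, b.coord_apply, b.repr_self, Finsupp.single_eq_of_ne']
        exact fun hh => ha ⟨_, hh⟩
      | zero => simp
      | add p q _ _ hp hq => simp only [map_add, hp, hq, add_zero]
      | smul r p _ hp => simp only [map_smul, hp, smul_zero]
    have := hw0 w (hEs hwE)
    simpa [w, Finsupp.single_apply] using this
  obtain ⟨i₀, hi₀⟩ : ∃ i₀, i₀ = f (e' ⟨v, hvs⟩) := ⟨_, rfl⟩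
  refine ⟨m, ρ.restrict f hf hzero, e' ⟨v, hvs⟩, ψ, fun a d => ?_, fun T _ _ g hg => ?_⟩
  · show π (ρ.M (f a) (f d)) = _
    rw [hψ d]
    simp [hf.eq_iff]
  · refine hstab T g ⟨g (ρ.M i₀ i₀), ?_⟩
    have hb : v = b i₀ := by rw [hi₀, hbf, Equiv.symm_apply_apply]
    rw [hb, ptAct_basis]
    refine Finset.sum_eq_single i₀ (fun i _ hi => ?_) (by simp)
    rw [hi₀] at hi ⊢
    by_cases hr : i ∈ Set.range f
    · obtain ⟨a, rfl⟩ := hr
      have := hg a (fun hh => hi (congrArg f hh))
      rw [show g (ρ.M (f a) (f (e' ⟨v, hvs⟩))) = 0 from this, TensorProduct.tmul_zero]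
    · rw [hzero i _ hr, map_zero, TensorProduct.tmul_zero]

/-- A normal subgroup is cut out by the representation on the endomorphisms preserving eigenspaces. -/
theorem exists_kernel_hom [IsAlgClosed k] [IsReduced A] [Algebra.FiniteType k A] (hπ : Function.Surjective π)
    (hn : PtNormal π) :
    ∃ (N : ℕ) (φ : CoordGrp.GLn N k →ₐc[k] A),
      ∀ (T : Type u) [CommRing T] [Algebra k T] (g : A →ₐ[k] T),
        (g.comp (φ : CoordGrp.GLn N k →ₐ[k] A) = (Algebra.ofId k T).comp (Bialgebra.counitAlgHom k _)) ↔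
          ∀ a ∈ RingHom.ker (π : A →+* B), g a = 0 := by
  classical
  obtain ⟨m, ρ, c₀, χ, hdiag, hstab⟩ := exists_diagonal hπ hn
  let J := {p : Fin (m + 1) × Fin (m + 1) // χ p.1 = χ p.2}
  let S := HopfAlgebra.antipodeAlgHom k A
  let R : Fin (m + 1) × Fin (m + 1) → Fin (m + 1) × Fin (m + 1) → A := fun p q => ρ.M p.1 q.1 * S (ρ.M q.2 p.2)
  have hnil : ∀ a b : A, (∀ g : A →ₐ[k] k, g a ≠ 0 → g b = 0) → a * b = 0 := fun a b h =>
    eq_zero_of_points (k := k) fun g => by
      rw [map_mul]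
      by_cases ha : g a = 0
      · rw [ha, zero_mul]
      · rw [h g ha, mul_zero]
  have hclosed : ∀ p q, χ q.1 = χ q.2 → χ p.1 ≠ χ p.2 → R p q = 0 := by
    intro p q hq hp
    refine hnil _ _ fun g h1 => by_contra fun h2 => hp ?_
    obtain ⟨ν, hν, hν'⟩ := hn.mat_eq' ρ g
    have e1 := congrFun (congrFun hν p.1) q.1
    simp only [Matrix.mul_apply, Rep.mat, Matrix.map_apply, AlgHom.comp_apply, BialgHom.coe_toAlgHom, hdiag,
      apply_ite ν, map_zero, ite_mul, mul_ite, zero_mul, mul_zero, Finset.sum_ite_eq, Finset.sum_ite_eq',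
      Finset.mem_univ, if_true] at e1
    have e2 := congrFun (congrFun hν' q.2) p.2
    simp only [Matrix.mul_apply, Rep.mat, Matrix.map_apply, AlgHom.comp_apply, BialgHom.coe_toAlgHom, hdiag,
      apply_ite ν, map_zero, ite_mul, mul_ite, zero_mul, mul_zero, Finset.sum_ite_eq, Finset.sum_ite_eq',
      Finset.mem_univ, if_true] at e2
    have f1 : χ p.1 = ν (χ q.1) :=
      (algebraMap_ne_zero_isUnit (B := B) h1).mul_left_cancel ((mul_comm _ _).trans e1)
    have f2 : ν (χ q.2) = χ p.2 :=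
      (algebraMap_ne_zero_isUnit (B := B) h2).mul_right_cancel (e2.trans (mul_comm _ _))
    rw [f1, hq, f2]
  have hΔ : ∀ p q, CoalgebraStruct.comul (R := k) (R p q) = ∑ r, R p r ⊗ₜ[k] R r q := by
    intro p q
    show Bialgebra.comulAlgHom k A (ρ.M p.1 q.1 * S (ρ.M q.2 p.2)) = _
    rw [map_mul]
    show CoalgebraStruct.comul (R := k) (ρ.M p.1 q.1) *
      Coalgebra.comul (R := k) (HopfAlgebra.antipode k (ρ.M q.2 p.2)) = _
    rw [Comodule.comul_antipode, show Coalgebra.comul (R := k) (ρ.M q.2 p.2) = _ from ρ.comul q.2 p.2, ρ.comul,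
      map_sum, map_sum, Finset.sum_mul_sum, Fintype.sum_prod_type]
    refine Finset.sum_congr rfl fun l _ => Finset.sum_congr rfl fun l' _ => ?_
    simp [R, S, Algebra.TensorProduct.tmul_mul_tmul]
  let eJ : J ≃ Fin (Fintype.card J) := Fintype.equivFin J
  let M : Matrix (Fin (Fintype.card J)) (Fin (Fintype.card J)) A :=
    Matrix.of fun i j => R (eJ.symm i).1 (eJ.symm j).1
  have h0 : ∀ i j, CoalgebraStruct.comul (R := k) (M i j) = ∑ l, M i l ⊗ₜ[k] M l j := by
    intro i j
    show CoalgebraStruct.comul (R := k) (R (eJ.symm i).1 (eJ.symm j).1) = _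
    rw [hΔ, ← Finset.sum_subset (Finset.subset_univ (Finset.univ.filter fun r : Fin (m + 1) × Fin (m + 1) => χ r.1 = χ r.2))
      (fun r _ hr => by
        rw [hclosed r (eJ.symm j).1 (eJ.symm j).2 (by simpa using hr), TensorProduct.tmul_zero]),
      Finset.sum_subtype (p := fun r : Fin (m + 1) × Fin (m + 1) => χ r.1 = χ r.2) _ (by simp)]
    exact (Equiv.sum_comp eJ.symm (fun r : J => R (eJ.symm i).1 r.1 ⊗ₜ[k] R r.1 (eJ.symm j).1)).symm
  have h2 : ∀ i j, CoalgebraStruct.counit (R := k) (M i j) = if i = j then 1 else 0 := by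
    intro i j
    show Bialgebra.counitAlgHom k A (ρ.M _ _ * S (ρ.M _ _)) = _
    rw [map_mul, Bialgebra.counitAlgHom_apply, Bialgebra.counitAlgHom_apply,
      show Coalgebra.counit (R := k) (S (ρ.M (eJ.symm j).1.2 (eJ.symm i).1.2)) = _ from
        HopfAlgebra.counit_antipode _,
      show Coalgebra.counit (R := k) (ρ.M (eJ.symm i).1.1 (eJ.symm j).1.1) = _ from ρ.counit _ _,
      show Coalgebra.counit (R := k) (ρ.M (eJ.symm j).1.2 (eJ.symm i).1.2) = _ from ρ.counit _ _]
    have hiff : i = j ↔ (eJ.symm i).1.1 = (eJ.symm j).1.1 ∧ (eJ.symm i).1.2 = (eJ.symm j).1.2 := by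
      rw [← Prod.ext_iff, ← Subtype.ext_iff, eJ.symm.injective.eq_iff]
    by_cases ha : (eJ.symm i).1.1 = (eJ.symm j).1.1 <;> by_cases hb : (eJ.symm i).1.2 = (eJ.symm j).1.2 <;>
      simp [hiff, ha, hb, Ne.symm]
  have hinv : M * M.map S = 1 := by
    ext i j
    have h := HopfAlgebra.mul_antipode_lTensor_comul_apply (R := k) (M i j)
    rw [h0, map_sum, map_sum, h2, apply_ite (algebraMap k A), map_one, map_zero] at h
    simp only [LinearMap.lTensor_tmul, LinearMap.mul'_apply] at h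
    simp only [Matrix.mul_apply, Matrix.map_apply, Matrix.one_apply]
    exact h
  obtain ⟨φ, hφ⟩ := HopfFF.exists_bialgHom_GLn M (M.map S).det
    (by rw [← Matrix.det_mul, hinv, Matrix.det_one]) h0 h2
  refine ⟨_, φ, fun T _ _ g => ?_⟩
  have hiff : g.comp (φ : CoordGrp.GLn (Fintype.card J) k →ₐ[k] A) = (Algebra.ofId k T).comp (Bialgebra.counitAlgHom k _) ↔
      ∀ i j, g (M i j) = if i = j then 1 else 0 := by
    constructor
    · intro h i j
      have := DFunLike.congr_fun h (CoordGrp.GLn.X i j)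
      simp only [AlgHom.comp_apply, BialgHom.coe_toAlgHom, hφ, Bialgebra.counitAlgHom_apply] at this
      rw [this, show Coalgebra.counit (R := k) (CoordGrp.GLn.X i j : CoordGrp.GLn _ k) = _ from
        CoordGrp.GLn.counit_X i j]
      split <;> simp
    · intro h
      let φ' : CoordGrp.GLn (Fintype.card J) k →ₐ[k] A := φ
      let ε := Bialgebra.counitAlgHom k (CoordGrp.GLn (Fintype.card J) k)
      have hX : ∀ i j, g (φ' (CoordGrp.GLn.X i j)) = Algebra.ofId k T (ε (CoordGrp.GLn.X i j)) := fun i j => by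
        show g (φ (CoordGrp.GLn.X i j)) = _
        rw [hφ, h, Bialgebra.counitAlgHom_apply, show Coalgebra.counit (R := k)
          (CoordGrp.GLn.X i j : CoordGrp.GLn (Fintype.card J) k) = _ from CoordGrp.GLn.counit_X i j]
        split <;> simp
      exact algHom_ext_of_X hX
  rw [hiff]
  constructor
  · intro h
    refine hstab T g fun a ha => ?_
    have hX : ∀ a b, g (ρ.M a c₀) * g (S (ρ.M c₀ b)) = if a = c₀ ∧ b = c₀ then 1 else 0 := by
      intro a b
      by_cases hab : χ a = χ b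
      · have := h (eJ ⟨(a, b), hab⟩) (eJ ⟨(c₀, c₀), rfl⟩)
        simp only [M, Matrix.of_apply, Equiv.symm_apply_apply, R, map_mul, eJ.injective.eq_iff] at this
        rw [this]
        have hiffs : ((⟨(a, b), hab⟩ : J) = ⟨(c₀, c₀), rfl⟩) ↔ a = c₀ ∧ b = c₀ :=
          ⟨fun hh => ⟨congrArg (fun r => r.1.1) hh, congrArg (fun r => r.1.2) hh⟩,
            fun hh => Subtype.ext (Prod.ext hh.1 hh.2)⟩
        exact if_congr hiffs rfl rfl
      · rw [← map_mul]
        show g (R (a, b) (c₀, c₀)) = _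
        rw [hclosed (a, b) (c₀, c₀) rfl hab, map_zero, if_neg]
        rintro ⟨rfl, rfl⟩
        exact hab rfl
    have e := congrFun (congrFun (ρ.antipode_mat_mul_mat g) c₀) c₀
    simp only [Matrix.mul_apply, Rep.mat, Matrix.map_apply, AlgHom.comp_apply, Matrix.one_apply_eq] at e
    rw [← _root_.mul_one (g (ρ.M a c₀)), ← e, Finset.mul_sum]
    refine Finset.sum_eq_zero fun b _ => ?_
    rw [← _root_.mul_assoc]
    show g (ρ.M a c₀) * g (S (ρ.M c₀ b)) * _ = 0
    rw [hX, if_neg (fun hh => ha hh.1), zero_mul]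
  · intro h i j
    have hg : ∀ a : A, π a = 0 → g a = 0 := fun a ha => h a ha
    obtain ⟨g', hg'⟩ : ∃ g' : B →ₐ[k] T, g'.comp (π : A →ₐ[k] B) = g :=
      ⟨AlgHom.liftOfSurjective (π : A →ₐ[k] B) hπ g hg, AlgHom.liftOfSurjective_comp _ _ _ _⟩
    have hu : ∀ a, π (ρ.M a a) * π (S (ρ.M a a)) = 1 := fun a => by
      have e := congrFun (congrFun (ρ.antipode_mat_mul_mat (π : A →ₐ[k] B)) a) a
      simp only [Matrix.mul_apply, Rep.mat, Matrix.map_apply, AlgHom.comp_apply, BialgHom.coe_toAlgHom,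
        Matrix.one_apply_eq] at e
      rw [Finset.sum_eq_single a (fun l _ hl => by rw [hdiag l a, if_neg hl, mul_zero]) (by simp), mul_comm] at e
      exact e
    rw [← hg']
    show g' (π (ρ.M (eJ.symm i).1.1 (eJ.symm j).1.1 * S (ρ.M (eJ.symm j).1.2 (eJ.symm i).1.2))) = _
    rw [map_mul, hdiag, show π (S (ρ.M (eJ.symm j).1.2 (eJ.symm i).1.2)) =
        HopfAlgebra.antipode k (π (ρ.M (eJ.symm j).1.2 (eJ.symm i).1.2)) from HopfFF.map_antipode' π _]
    by_cases hij : i = j
    · subst hij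
      rw [if_pos rfl, if_pos rfl, ← HopfFF.map_antipode' π,
        show χ (eJ.symm i).1.1 = χ (eJ.symm i).1.2 from (eJ.symm i).2,
        show χ (eJ.symm i).1.2 = π (ρ.M (eJ.symm i).1.2 (eJ.symm i).1.2) by rw [hdiag, if_pos rfl]]
      erw [hu]
      exact map_one g'
    · rw [if_neg hij, hdiag]
      by_cases ha : (eJ.symm i).1.1 = (eJ.symm j).1.1
      · have hb : ¬ (eJ.symm j).1.2 = (eJ.symm i).1.2 := fun hh =>
          hij (eJ.symm.injective (Subtype.ext (Prod.ext ha hh.symm)))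
        rw [if_neg hb]; simp
      · rw [if_neg ha, zero_mul, map_zero]

end Groth.Agent.ProjActLib
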