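import Groth.Agent.ProjActLib.Basic
import Groth.Agent.Comodule.LineStab

/-!
# A closed subgroup of an affine group is the stabiliser of a point of projective space
-/

set_option autoImplicit false
set_option backward.isDefEq.respectTransparency.types false
set_option linter.style.haveILetI false
set_option linter.unusedSectionVars false

universe u

open CategoryTheory CategoryTheory.Limits MonoidalCategory CartesianMonoidalCategory MonObj AlgebraicGeometry
  HomogeneousLocalization WithConv
open scoped TensorProduct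

noncomputable section

namespace Groth.Agent.ProjActLib

open ProjMap

variable {k : Type u} [Field k] {A : Type u} [CommRing A] [HopfAlgebra k A] {n : ℕ}

section Comod

variable {V : Type u} [AddCommGroup V] [Module k V] (b : Module.Basis (Fin (n + 1)) k V)

/-- The coefficient of a tensor along a basis vector. -/
def coef (M : Type u) [AddCommGroup M] [Module k M] (i : Fin (n + 1)) : V ⊗[k] M →ₗ[k] M :=
  (TensorProduct.lid k M).toLinearMap ∘ₗ (b.coord i).rTensor M

theorem coef_tmul (M : Type u) [AddCommGroup M] [Module k M] (i : Fin (n + 1)) (v : V) (m : M) :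
    coef b M i (v ⊗ₜ m) = b.coord i v • m := by simp [coef]

theorem sum_coef (M : Type u) [AddCommGroup M] [Module k M] (z : V ⊗[k] M) :
    z = ∑ i, b i ⊗ₜ[k] coef b M i z := by
  induction z with
  | zero => simp
  | add p q hp hq =>
    simp only [map_add, TensorProduct.tmul_add, Finset.sum_add_distrib]
    rw [← hp, ← hq]
  | tmul p a =>
    conv_lhs => rw [← b.sum_repr p, TensorProduct.sum_tmul]
    simp [coef_tmul, TensorProduct.smul_tmul]

theorem coef_sum (M : Type u) [AddCommGroup M] [Module k M] (m : Fin (n + 1) → M) (j : Fin (n + 1)) :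
    coef b M j (∑ i, b i ⊗ₜ[k] m i) = m j := by
  simp [coef_tmul, Finsupp.single_apply]

variable (c : HopfRep.Comod k A V)

/-- The matrix of a comodule. -/
def ofComod : Rep k A n where
  M := Matrix.of fun i j => coef b A i (c.coact (b j))
  comul i j := by
    have h := LinearMap.congr_fun c.coassoc (b j)
    simp only [LinearMap.comp_apply, LinearEquiv.coe_coe] at h
    have hj := sum_coef b A (c.coact (b j))
    rw [hj] at h
    simp only [map_sum, LinearMap.rTensor_tmul, LinearMap.lTensor_tmul] at h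
    have h2 : ∀ l, (TensorProduct.assoc k V A A) (c.coact (b l) ⊗ₜ[k] coef b A l (c.coact (b j))) =
        ∑ p, b p ⊗ₜ[k] (coef b A p (c.coact (b l)) ⊗ₜ[k] coef b A l (c.coact (b j))) := fun l => by
      conv_lhs => rw [sum_coef b A (c.coact (b l))]
      rw [TensorProduct.sum_tmul, map_sum]
      rfl
    simp only [h2] at h
    rw [Finset.sum_comm] at h
    simp only [← TensorProduct.tmul_sum] at h
    have h3 := congrArg (coef b (A ⊗[k] A) i) h
    rw [coef_sum, coef_sum] at h3
    exact h3.symm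
  counit i j := by
    have h := LinearMap.congr_fun c.counit_comp (b j)
    simp only [LinearMap.comp_apply, LinearMap.flip_apply, TensorProduct.mk_apply] at h
    rw [sum_coef b A (c.coact (b j)), map_sum] at h
    simp only [LinearMap.lTensor_tmul] at h
    have h3 := congrArg (coef b k i) h
    rw [coef_sum, coef_tmul, b.coord_apply, b.repr_self, Finsupp.single_apply] at h3
    show CoalgebraStruct.counit (R := k) (coef b A i (c.coact (b j))) = _
    rw [h3]
    by_cases hij : i = j
    · subst hij; simp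
    · simp [hij, Ne.symm hij]

theorem ptAct_basis {T : Type u} [CommRing T] [Algebra k T] (g : A →ₐ[k] T) (j : Fin (n + 1)) :
    Comodule.ptAct c g (b j) = ∑ i, b i ⊗ₜ[k] g ((ofComod b c).M i j) := by
  rw [Comodule.ptAct]
  conv_lhs => rw [sum_coef b A (c.coact (b j))]
  rw [map_sum]
  rfl

end Comod

variable (ρ : Rep k A n) (c₀ : Fin (n + 1))

/-- The base point. -/
def basePt : 𝟙_ (Over (Spec (CommRingCat.of k))) ⟶ P k n :=
  Over.homMk (point (R := k) (A := k) (Pi.single c₀ 1) c₀ (by simp)) (by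
    refine (point_toSpec (R := k) (A := k) _ c₀ _).trans ?_
    exact Spec.map_id _)

theorem toUnit_basePt (T : Type u) [CommRing T] [Algebra k T] :
    toUnit (CoactBr.sp k T) ≫ basePt (k := k) (n := n) c₀ = ptP (Pi.single c₀ 1) c₀ (by simp) := by
  refine Over.OverMorphism.ext ?_
  refine (specMap_point (R := k) (algebraMap k T) (fun _ => rfl) (Pi.single c₀ (1 : k)) c₀ (by simp)).trans ?_
  rw [ptP_left]
  congr 1
  ext i
  rw [Pi.single_apply, Pi.single_apply]
  split <;> simp

/-- Equal points have proportional coordinates. -/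
theorem exists_smul_of_ptP_eq {T : Type u} [CommRing T] [Algebra k T] (v w : Fin (n + 1) → T)
    (c d : Fin (n + 1)) (hc : IsUnit (v c)) (hd : IsUnit (w d)) (h : ptP (k := k) v c hc = ptP w d hd) :
    ∃ t : T, ∀ i, w i = t * v i := by
  have key : ∀ (v : Fin (n + 1) → T) (c : Fin (n + 1)) (hu : IsUnit (MvPolynomial.aeval v
      (MvPolynomial.X c : MvPolynomial (Fin (n + 1)) k))) (i : Fin (n + 1)),
      coords c (evalAway (R := k) v (MvPolynomial.X c) hu) i * v c = v i := fun v c hu i => by
    have h := evalAway_mk (v := v) (R := k) (X_mem c) hu 1 (MvPolynomial.X i)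
      (by simpa using X_mem (R := k) i)
    simpa [coords] using h
  obtain ⟨t, -, ht⟩ := exists_smul_of_comp_eq (R := k) _ _ (congrArg CommaMorphism.left h)
  obtain ⟨e, he⟩ := hc.exists_left_inv
  refine ⟨w d * t * e, fun i => ?_⟩
  have h1 := key v c (by simpa using hc) i
  have h2 := key w d (by simpa using hd) i
  rw [ht] at h2
  calc w i = t * coords c (evalAway (R := k) v (MvPolynomial.X c) (by simpa using hc)) i * w d := h2.symm
    _ = w d * t * (e * v c) * coords c (evalAway (R := k) v (MvPolynomial.X c) (by simpa using hc)) i := by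
      rw [he]; ring
    _ = w d * t * e * (coords c (evalAway (R := k) v (MvPolynomial.X c) (by simpa using hc)) i * v c) := by ring
    _ = w d * t * e * v i := by rw [h1]

theorem mulVec_single_one {T : Type u} [CommRing T] [Algebra k T] (g : A →ₐ[k] T) :
    (ρ.mat g).mulVec (Pi.single c₀ 1) = fun i => g (ρ.M i c₀) := by
  ext i
  simp [Rep.mat]

theorem isUnit_col {T : Type u} [CommRing T] [Algebra k T] (g : A →ₐ[k] T)
    (h : ∀ i, i ≠ c₀ → g (ρ.M i c₀) = 0) : IsUnit (g (ρ.M c₀ c₀)) := by
  have e := congrFun (congrFun (ρ.antipode_mat_mul_mat g) c₀) c₀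
  rw [Matrix.mul_apply, Finset.sum_eq_single c₀ (fun i _ hi => by simp [Rep.mat, h i hi]) (by simp),
    Matrix.one_apply_eq] at e
  exact isUnit_of_mul_isUnit_right (e ▸ isUnit_one)

theorem pt_orbitMap {T : Type u} [CommRing T] [Algebra k T] (g : A →ₐ[k] T) :
    CoactBr.pt g ≫ (action ρ).orbitMap (basePt c₀) =
      lift (CoactBr.pt g) (ptP (Pi.single c₀ 1) c₀ (by simp)) ≫ actMap ρ := by
  rw [AlgGrp.Action.orbitMap, ← Category.assoc, comp_lift, Category.comp_id, ← Category.assoc,
    toUnit_unique (CoactBr.pt g ≫ toUnit _) (toUnit _), toUnit_basePt]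
  rfl

theorem eq_zero_of_locally {T : Type u} [CommRing T] (z : T)
    (h : ∀ y : PrimeSpectrum T, ∃ w : T, w ∉ y.asIdeal ∧ algebraMap T (Localization.Away w) z = 0) : z = 0 := by
  have : Submodule.annihilator (Ideal.span {z}) = ⊤ := by
    by_contra hne
    obtain ⟨m, hm, hle⟩ := Ideal.exists_le_maximal _ hne
    obtain ⟨w, hw, h0⟩ := h ⟨m, hm.isPrime⟩
    obtain ⟨⟨_, N, rfl⟩, hN⟩ := (IsLocalization.map_eq_zero_iff (Submonoid.powers w) _ z).mp h0
    exact hw (hm.isPrime.mem_of_pow_mem N (hle
      ((Submodule.mem_annihilator_span_singleton z (w ^ N)).mpr hN)))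
  have h1 : (1 : T) ∈ Submodule.annihilator (Ideal.span {z}) := this ▸ Submodule.mem_top
  simpa using (Submodule.mem_annihilator_span_singleton z (1 : T)).mp h1

/-- A point fixes the base point iff the column vanishes off the diagonal. -/
theorem orbit_eq_iff {T : Type u} [CommRing T] [Algebra k T] (g : A →ₐ[k] T) :
    CoactBr.pt g ≫ (action ρ).orbitMap (basePt c₀) = toUnit _ ≫ basePt c₀ ↔
      ∀ i, i ≠ c₀ → g (ρ.M i c₀) = 0 := by
  rw [pt_orbitMap, toUnit_basePt]
  constructor
  · intro h i hi
    refine eq_zero_of_locally _ fun y => ?_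
    obtain ⟨d, hd⟩ := ρ.exists_notMem g (Pi.single c₀ 1) (c := c₀) (by simp) y
    refine ⟨_, hd, ?_⟩
    let w := (ρ.mat g).mulVec (Pi.single c₀ 1) d
    let f : T →ₐ[k] Localization.Away w := IsScalarTower.toAlgHom k T _
    have hw : IsUnit (f w) := IsLocalization.Away.algebraMap_isUnit _
    have hd' : IsUnit ((ρ.mat (f.comp g)).mulVec (fun l => f ((Pi.single c₀ 1 : Fin (n + 1) → T) l)) d) := by
      rw [← ρ.map_mulVec]; exact hw
    have h' := congrArg (CoactBr.pt f ≫ ·) h
    simp only [← Category.assoc, comp_lift, pt_comp_ptP, ← CoactBr.pt_comp] at h'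
    rw [lift_pt_ptP_actMap ρ (f.comp g) _ _ d _ hd'] at h'
    obtain ⟨t, ht⟩ := exists_smul_of_ptP_eq _ _ _ _ _ _ h'.symm
    have := ht i
    rw [← ρ.map_mulVec, mulVec_single_one, Pi.single_eq_of_ne hi, map_zero, mul_zero] at this
    exact this
  · intro h
    have hu := isUnit_col ρ c₀ g h
    rw [lift_pt_ptP_actMap ρ g _ c₀ c₀ _ (by rw [mulVec_single_one]; exact hu)]
    refine ptP_smul _ _ (g (ρ.M c₀ c₀)) (fun i => ?_) _ _ _ _
    rw [mulVec_single_one]
    by_cases hi : i = c₀
    · subst hi; simp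
    · simp [hi, h i hi]

/-- Affine neighbourhoods, as points. -/
theorem exists_affine_nhd {W : Over (Spec (CommRingCat.of k))} (x : W.left) :
    ∃ (T : Type u) (_ : CommRing T) (_ : Algebra k T) (j : CoactBr.sp k T ⟶ W),
      IsOpenImmersion j.left ∧ x ∈ Set.range j.left := by
  obtain ⟨U, hU, hxU, -⟩ := exists_isAffineOpen_mem_and_subset (U := (⊤ : W.left.Opens)) (x := x) trivial
  letI : Algebra k Γ(W.left, U) := (Spec.preimage (hU.fromSpec ≫ W.hom)).hom.toAlgebra
  let j : CoactBr.sp k Γ(W.left, U) ⟶ W := Over.homMk hU.fromSpec (by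
    exact (Spec.map_preimage (hU.fromSpec ≫ W.hom)).symm)
  exact ⟨_, inferInstance, inferInstance, j, (inferInstance : IsOpenImmersion hU.fromSpec), hU.range_fromSpec.ge hxU⟩

variable {B : Type u} [CommRing B] [HopfAlgebra k B] (π : A →ₐc[k] B)

theorem isClosedImmersion_pt (hπ : Function.Surjective π) :
    IsClosedImmersion (CoactBr.pt (π : A →ₐ[k] B)).left :=
  IsClosedImmersion.spec_of_surjective _ hπ

/-- The stabiliser of the base point. -/
theorem isPullback_stabilizer (hπ : Function.Surjective π)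
    (h1 : ∀ i, i ≠ c₀ → π (ρ.M i c₀) = 0)
    (h2 : ∀ (T : Type u) [CommRing T] [Algebra k T] (g : A →ₐ[k] T), (∀ i, i ≠ c₀ → g (ρ.M i c₀) = 0) →
      ∀ a ∈ RingHom.ker (π : A →+* B), g a = 0) :
    IsPullback (CoactBr.pt (π : A →ₐ[k] B)) (toUnit _) ((action ρ).orbitMap (basePt c₀)) (basePt c₀) := by
  haveI := isClosedImmersion_pt π hπ
  haveI : Mono (CoactBr.pt (π : A →ₐ[k] B)).left := inferInstance
  haveI : Mono (CoactBr.pt (π : A →ₐ[k] B)) := Over.mono_of_mono_left _
  have hw : CoactBr.pt (π : A →ₐ[k] B) ≫ (action ρ).orbitMap (basePt c₀) = toUnit _ ≫ basePt c₀ :=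
    (orbit_eq_iff ρ c₀ _).mpr h1
  have key : ∀ {W : Over (Spec (CommRingCat.of k))} (g : W ⟶ CoactBr.sp k A),
      g ≫ (action ρ).orbitMap (basePt c₀) = toUnit W ≫ basePt c₀ → ∃ l, l ≫ CoactBr.pt (π : A →ₐ[k] B) = g := by
    intro W g hg
    choose T iT aT j hj hx using fun x : W.left => exists_affine_nhd x
    have hl : ∀ x, ∃ l : CoactBr.sp k (T x) ⟶ CoactBr.sp k B,
        l ≫ CoactBr.pt (π : A →ₐ[k] B) = j x ≫ g := by
      intro x
      obtain ⟨g₁, hγ₁⟩ := exists_pt (j x ≫ g)
      have hz := h2 (T x) g₁ ((orbit_eq_iff ρ c₀ g₁).mp (by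
        rw [hγ₁, Category.assoc, hg, ← Category.assoc]
        exact congrArg (· ≫ basePt c₀) (toUnit_unique _ _)))
      refine ⟨CoactBr.pt (AlgHom.liftOfSurjective (π : A →ₐ[k] B) hπ g₁ (fun a ha => hz a ha)), ?_⟩
      rw [← CoactBr.pt_comp, AlgHom.liftOfSurjective_comp, hγ₁]
    choose l hl using hl
    let 𝒰 : W.left.OpenCover := Scheme.Cover.mkOfCovers W.left (fun x => (CoactBr.sp k (T x)).left)
      (fun x => (j x).left) (fun x => by obtain ⟨y, hy⟩ := hx x; exact ⟨x, y, hy⟩) hj
    have hcompat : ∀ x x' : W.left, pullback.fst (j x).left (j x').left ≫ (l x).left =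
        pullback.snd (j x).left (j x').left ≫ (l x').left := by
      intro x x'
      rw [← cancel_mono (CoactBr.pt (π : A →ₐ[k] B)).left, Category.assoc, Category.assoc, ← Over.comp_left,
        ← Over.comp_left, hl, hl, Over.comp_left, Over.comp_left, pullback.condition_assoc]
    let L : W.left ⟶ (CoactBr.sp k B).left := 𝒰.glueMorphisms (fun x => (l x).left) hcompat
    have hL : L ≫ (CoactBr.pt (π : A →ₐ[k] B)).left = g.left := by
      refine 𝒰.hom_ext _ _ fun x => ?_
      refine (𝒰.ι_glueMorphisms_assoc _ _ x _).trans ?_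
      exact congrArg CommaMorphism.left (hl x)
    exact ⟨Over.homMk L (by rw [← Over.w (CoactBr.pt (π : A →ₐ[k] B)), ← Category.assoc, hL, Over.w g]),
      Over.OverMorphism.ext hL⟩
  choose lf hlf using @key
  exact IsPullback.of_isLimit' ⟨hw⟩ (PullbackCone.IsLimit.mk _
    (fun s => lf s.fst (s.condition.trans (congrArg (· ≫ basePt c₀) (toUnit_unique _ _))))
    (fun s => hlf _ _) (fun s => toUnit_unique _ _)
    (fun s m hm _ => (cancel_mono (CoactBr.pt (π : A →ₐ[k] B))).1 (hm.trans (hlf _ _).symm)))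

/-- Chevalley: every closed subgroup is the stabiliser of a point of a projective space. -/
theorem exists_stabilizer [IsNoetherianRing A] (hπ : Function.Surjective π) :
    ∃ (n : ℕ) (ρ : Rep k A n) (c₀ : Fin (n + 1)),
      IsPullback (CoactBr.pt (π : A →ₐ[k] B)) (toUnit _) ((action ρ).orbitMap (basePt c₀)) (basePt c₀) := by
  obtain ⟨V, _, _, c, _, v, χ, hv, -, hv', hstab⟩ := Comodule.exists_line_stabilizer π
  haveI : Nontrivial V := ⟨⟨v, 0, hv⟩⟩
  have hli : LinearIndepOn k id ({v} : Set V) :=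
    linearIndepOn_singleton_iff k |>.mpr hv
  let s := hli.extend (Set.subset_univ _)
  let b₁ : Module.Basis s k V := Module.Basis.extend hli
  have hvs : v ∈ s := hli.subset_extend _ rfl
  haveI : Fintype s := FiniteDimensional.fintypeBasisIndex b₁
  obtain ⟨n, hn⟩ : ∃ n, Fintype.card s = n + 1 :=
    Nat.exists_eq_succ_of_ne_zero (Fintype.card_pos_iff.mpr ⟨⟨v, hvs⟩⟩).ne'
  let e : s ≃ Fin (n + 1) := (Fintype.equivFin s).trans (finCongr hn)
  let b : Module.Basis (Fin (n + 1)) k V := b₁.reindex e
  let c₀ : Fin (n + 1) := e ⟨v, hvs⟩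
  have hb : b c₀ = v := by
    simp only [b, c₀, b₁, Module.Basis.reindex_apply, Equiv.symm_apply_apply]
    exact Module.Basis.extend_apply_self hli ⟨v, hvs⟩
  refine ⟨n, ofComod b c, c₀, isPullback_stabilizer _ c₀ π hπ (fun i hi => ?_) fun T _ _ g hg => ?_⟩
  · have h := congrArg (coef b B i) hv'
    rw [← hb, ptAct_basis, coef_sum, coef_tmul, b.coord_apply, b.repr_self,
      Finsupp.single_eq_of_ne' (Ne.symm hi), zero_smul] at h
    exact h
  · refine hstab T g ⟨g ((ofComod b c).M c₀ c₀), ?_⟩
    rw [← hb, ptAct_basis]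
    exact Finset.sum_eq_single c₀ (fun i _ hi => by simp [hg i hi]) (by simp)

end Groth.Agent.ProjActLib
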